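import Cfsg.Agent.SelfCentThree.Exceptional

/-!
Groups with a self-centralising subgroup of order three: the order of a simple one is 60 or 168.
-/

namespace Cfsg.Lib.SelfCentThree

universe u

theorem succ_pow_le {B : ℕ} (hB : 1 ≤ B) : (B + 1) ^ (B - 1) ≤ B ^ B := by
  have key : ∀ k, k < B → (B + 1) ^ k ≤ (k + 1) * B ^ k := by
    intro k
    induction k with
    | zero => simp
    | succ k ih =>
      intro hk
      have h1 := ih (by omega)
      rw [pow_succ, pow_succ]
      calc (B + 1) ^ k * (B + 1) ≤ (k + 1) * B ^ k * (B + 1) := Nat.mul_le_mul_right _ h1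
        _ = B ^ k * ((k + 1) * (B + 1)) := by ring
        _ ≤ B ^ k * ((k + 1 + 1) * B) := Nat.mul_le_mul_left _ (by nlinarith)
        _ = (k + 1 + 1) * (B ^ k * B) := by ring
  have h := key (B - 1) (by omega)
  rw [Nat.sub_add_cancel hB, ← pow_succ', Nat.sub_add_cancel hB] at h
  exact h

/-- A form of the inequality of Bernoulli. -/
theorem pow_pred_le {M B : ℕ} (hM : 1 ≤ M) (hMB : M ≤ B) : B ^ (M - 1) ≤ M ^ (B - 1) := by
  induction B, hMB using Nat.le_induction with
  | base => exact le_rfl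
  | succ B hMB ih =>
    rw [Nat.add_sub_cancel]
    rcases Nat.eq_or_lt_of_le (hM.trans hMB) with e | e
    · have : M = 1 := by omega
      subst this
      simp
    refine le_of_pow_le_pow_left₀ (show B - 1 ≠ 0 by omega) zero_le ?_
    calc ((B + 1) ^ (M - 1)) ^ (B - 1) = ((B + 1) ^ (B - 1)) ^ (M - 1) := pow_right_comm _ _ _
      _ ≤ (B ^ B) ^ (M - 1) := Nat.pow_le_pow_left (succ_pow_le (by omega)) _
      _ = (B ^ (M - 1)) ^ B := pow_right_comm _ _ _
      _ ≤ (M ^ (B - 1)) ^ B := Nat.pow_le_pow_left ih _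
      _ = (M ^ B) ^ (B - 1) := pow_right_comm _ _ _

theorem sum_pred_le_prod {α : Type*} (s : Finset α) (f : α → ℕ) (h : ∀ a ∈ s, 1 ≤ f a) :
    (∑ a ∈ s, (f a - 1)) + 1 ≤ ∏ a ∈ s, f a := by
  classical
  induction s using Finset.induction_on with
  | empty => simp
  | insert a s ha ih =>
    rw [Finset.sum_insert ha, Finset.prod_insert ha]
    have h1 := ih fun b hb => h b (Finset.mem_insert_of_mem hb)
    obtain ⟨k, hk⟩ := Nat.exists_eq_add_of_le (h a (Finset.mem_insert_self a s))
    rw [hk, Nat.add_sub_cancel_left]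
    nlinarith [Nat.zero_le (k * ∑ b ∈ s, (f b - 1)), Nat.mul_le_mul_left k h1]

theorem seven_sum_le {α : Type*} (s : Finset α) (f : α → ℕ) (h : ∀ a ∈ s, 7 ≤ f a) (h2 : 2 ≤ s.card) :
    7 * (∑ a ∈ s, (f a - 1)) ≤ (∏ a ∈ s, f a) + 35 ∧ 49 ≤ ∏ a ∈ s, f a := by
  classical
  induction s using Finset.induction_on with
  | empty => simp at h2
  | insert a s ha ih =>
    rw [Finset.sum_insert ha, Finset.prod_insert ha]
    rw [Finset.card_insert_of_notMem ha] at h2
    obtain ⟨k, hk⟩ := Nat.exists_eq_add_of_le (h a (Finset.mem_insert_self a s))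
    rw [hk, show 7 + k - 1 = 6 + k by omega]
    rcases Nat.eq_or_lt_of_le (show 1 ≤ s.card by omega) with e | e
    · obtain ⟨b, rfl⟩ := Finset.card_eq_one.1 e.symm
      obtain ⟨l, hl⟩ := Nat.exists_eq_add_of_le (h b (by simp))
      rw [Finset.sum_singleton, Finset.prod_singleton, hl, show 7 + l - 1 = 6 + l by omega]
      exact ⟨by nlinarith, by nlinarith⟩
    · obtain ⟨h3, h4⟩ := ih (fun b hb => h b (Finset.mem_insert_of_mem hb)) e
      exact ⟨by nlinarith, by nlinarith⟩

theorem factorization_two_eq {N e k : ℕ} (hk : ¬ 2 ∣ k) (hN : N = 2 ^ e * k) :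
    N.factorization 2 = e := by
  subst hN
  rw [Nat.factorization_mul (by positivity) (fun h => hk (by rw [h]; exact dvd_zero 2)), Finsupp.add_apply,
    Nat.Prime.factorization_pow Nat.prime_two, Finsupp.single_eq_same,
    Nat.factorization_eq_zero_of_not_dvd hk, add_zero]

variable {G : Type u} [Group G] [Finite G] {x t : G}

set_option maxHeartbeats 1000000 in
/-- The order of a simple group in the setting. -/
theorem Setting.card_eq (S : Setting x t) : Nat.card G = 60 ∨ Nat.card G = 168 := by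
  classical
  obtain ⟨R, F⟩ := exists_family S
  obtain ⟨n, j, A, hg, hn3, hn4, hj3, hA3, hA2, hA0, hAn, hv, h4, heven, hB, hU⟩ :=
    S.exists_numbers F
  have hj0 : 0 < j := Nat.pos_of_ne_zero fun e => hj3 (e ▸ dvd_zero 3)
  set U := ∑ M ∈ R, (Nat.card M - 1) with hUdef
  set B := j ^ 2 * n with hBdef
  set P := ∏ M ∈ R, Nat.card M with hPdef
  have hB2 : 2 ≤ B := by
    have h1 : 1 ≤ j ^ 2 := Nat.one_le_pow _ _ hj0
    nlinarith
  have hexp : (n + 1) * (B - 1) ≤ 6 * U := by
    obtain ⟨b, hb⟩ : ∃ b, B = b + 1 := ⟨B - 1, by omega⟩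
    rw [hb, Nat.add_sub_cancel]
    nlinarith [hBdef, Nat.one_le_pow 2 j hj0]
  have hbig : B ^ (n + 1) ≤ P ^ 6 := by
    refine le_of_pow_le_pow_left₀ (show B - 1 ≠ 0 by omega) zero_le ?_
    calc (B ^ (n + 1)) ^ (B - 1) = B ^ ((n + 1) * (B - 1)) := (pow_mul _ _ _).symm
      _ ≤ B ^ (6 * U) := Nat.pow_le_pow_right (by omega) hexp
      _ = (B ^ U) ^ 6 := by rw [← pow_mul, mul_comm]
      _ ≤ (P ^ (B - 1)) ^ 6 := by
          refine Nat.pow_le_pow_left ?_ 6
          rw [hUdef, hPdef, ← Finset.prod_pow, ← Finset.prod_pow_eq_pow_sum]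
          exact Finset.prod_le_prod' fun M hM => pow_pred_le (F.basic M hM).2.2.1.le (hB M hM)
      _ = (P ^ 6) ^ (B - 1) := pow_right_comm _ _ _
  have hP : P ≤ 8 * j ^ 2 * (n * (n + 1)) := by
    have := F.prod_le
    rw [← hPdef, hg] at this
    linarith
  have hmain : (j ^ 2 * n) ^ (n + 1) ≤ (8 * j ^ 2 * (n * (n + 1))) ^ 6 :=
    hbig.trans (Nat.pow_le_pow_left hP 6)
  -- no large degree
  have hn16 : n < 16 := by
    by_contra! hn
    have h1 : (j ^ 2 * n) ^ 17 ≤ (8 * j ^ 2 * (n * (n + 1))) ^ 6 :=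
      (Nat.pow_le_pow_right (by omega) (by omega)).trans hmain
    have h2 : 16 ^ 6 * (8 * j ^ 2 * (n * (n + 1))) ^ 6 ≤ 136 ^ 6 * (j ^ 12 * n ^ 12) := by
      have : 16 * (8 * j ^ 2 * (n * (n + 1))) ≤ 136 * (j ^ 2 * n ^ 2) := by nlinarith
      calc 16 ^ 6 * (8 * j ^ 2 * (n * (n + 1))) ^ 6 = (16 * (8 * j ^ 2 * (n * (n + 1)))) ^ 6 := (mul_pow _ _ _).symm
        _ ≤ (136 * (j ^ 2 * n ^ 2)) ^ 6 := Nat.pow_le_pow_left this 6
        _ = _ := by ring
    have h3 : 16 ^ 11 * (j ^ 12 * n ^ 12) ≤ 16 ^ 6 * (j ^ 2 * n) ^ 17 := by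
      calc 16 ^ 11 * (j ^ 12 * n ^ 12) = 16 ^ 6 * (1 * 16 ^ 5 * (j ^ 12 * n ^ 12)) := by ring
        _ ≤ 16 ^ 6 * (j ^ 22 * n ^ 5 * (j ^ 12 * n ^ 12)) := Nat.mul_le_mul_left _ (Nat.mul_le_mul_right _
            (Nat.mul_le_mul (Nat.one_le_pow _ _ hj0) (Nat.pow_le_pow_left hn 5)))
        _ = _ := by ring
    have h4 : 16 ^ 11 * (j ^ 12 * n ^ 12) ≤ 136 ^ 6 * (j ^ 12 * n ^ 12) :=
      h3.trans ((Nat.mul_le_mul_left _ h1).trans h2)
    have := Nat.le_of_mul_le_mul_right h4 (by positivity)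
    norm_num at this
  -- bounds on the sum
  set E := R.filter fun M : Subgroup G => 2 ∣ Nat.card M with hE
  set O := R.filter fun M : Subgroup G => ¬ 2 ∣ Nat.card M with hO
  have hUsplit : U = ∑ M ∈ E, (Nat.card M - 1) + ∑ M ∈ O, (Nat.card M - 1) :=
    (Finset.sum_filter_add_sum_filter_not R _ _).symm
  have hUE : ∀ b, (∀ M ∈ E, Nat.card M ≤ b) → ∑ M ∈ E, (Nat.card M - 1) ≤ E.card * (b - 1) := fun b hb => by
    rw [← smul_eq_mul]
    exact Finset.sum_le_card_nsmul _ _ _ fun M hM => Nat.sub_le_sub_right (hb M hM) 1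
  have hOprod : ∀ N, Nat.card G = 3 * 2 ^ (Nat.card G).factorization 2 * N →
      ∏ M ∈ O, Nat.card M ∣ N := fun N hN => by
    have h1 : 3 * 2 ^ (Nat.card G).factorization 2 *
        ∏ M ∈ R, Nat.card M / 2 ^ (Nat.card M).factorization 2 ∣
          3 * 2 ^ (Nat.card G).factorization 2 * N := hN ▸ F.odd_dvd
    refine Dvd.dvd.trans ?_ (Nat.dvd_of_mul_dvd_mul_left (by positivity) h1)
    rw [Finset.prod_congr rfl (g := fun M : Subgroup G => Nat.card M / 2 ^ (Nat.card M).factorization 2)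
      fun M hM => by
        rw [Nat.factorization_eq_zero_of_not_dvd (Finset.mem_filter.1 hM).2, pow_zero, Nat.div_one]]
    exact Finset.prod_dvd_prod_of_subset _ _ _ (Finset.filter_subset _ _)
  have hcount : E.card ≤ 3 := F.count
  have hEmem : ∀ M ∈ E, M ∈ R ∧ 2 ∣ Nat.card M := fun M hM => Finset.mem_filter.1 hM
  have hOmem : ∀ M ∈ O, M ∈ R ∧ ¬ 2 ∣ Nat.card M := fun M hM => Finset.mem_filter.1 hM
  have hjA : j * A ≠ 0 := by positivity
  have hv' : (j * A).factorization 2 = (Nat.card G).factorization 2 :=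
    Nat.pow_right_injective le_rfl hv
  obtain rfl | rfl | rfl | rfl : n = 4 ∨ n = 7 ∨ n = 10 ∨ n = 13 := by omega
  · -- `n = 4`
    left
    have h60 : Nat.card G = 60 * j ^ 2 := by rw [hg]; ring
    have hvG : (Nat.card G).factorization 2 = 2 + 2 * j.factorization 2 := by
      rw [h60, Nat.factorization_mul (by norm_num) (by positivity), Finsupp.add_apply,
        factorization_two_eq (show ¬ 2 ∣ 15 by norm_num) (show 60 = 2 ^ 2 * 15 by norm_num),
        Nat.factorization_pow, Finsupp.smul_apply, smul_eq_mul]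
    rw [hvG, Nat.factorization_mul hj0.ne' hA0.ne', Finsupp.add_apply] at hv'
    have h2A : 2 ^ A.factorization 2 ≤ A := Nat.le_of_dvd hA0 (Nat.ordProj_dvd A 2)
    have hjodd : j.factorization 2 = 0 := by
      by_contra hne
      have := Nat.pow_le_pow_right (show 2 > 0 by norm_num) (show 3 ≤ A.factorization 2 by omega)
      omega
    have hA4 : A = 4 := by
      obtain ⟨k, hk⟩ := Nat.ordProj_dvd A 2
      rw [show A.factorization 2 = 2 by omega] at hk
      norm_num at hk
      omega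
    rw [hjodd] at hvG
    have hj2 : ¬ 2 ∣ j := fun h =>
      (Nat.Prime.factorization_pos_of_dvd Nat.prime_two hj0.ne' h).ne' hjodd
    have hT : 2 ^ (Nat.card G).factorization 2 = 4 := by rw [hvG]; norm_num
    have hE1 : E.card ≤ 1 := F.count_one hT.le
    have hEb : ∑ M ∈ E, (Nat.card M - 1) ≤ 4 * j - 1 :=
      (hUE (4 * j) fun M hM => Nat.le_of_dvd (by omega)
        ((heven M (hEmem M hM).1 (hEmem M hM).2).trans (by rw [hA4, mul_comm]))).trans
        ((Nat.mul_le_mul_right _ hE1).trans (one_mul _).le)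
    suffices j = 1 by rw [h60, this]; norm_num
    by_contra hj1
    have hj5 : 5 ≤ j := by omega
    have hN : ∏ M ∈ O, Nat.card M ∣ 5 * j ^ 2 := hOprod _ (by rw [hT, h60]; ring)
    have h7 : ∀ M ∈ O, 7 ≤ Nat.card M := fun M hM => by
      obtain ⟨-, -, h1, h3⟩ := F.basic M (hOmem M hM).1
      have := (hOmem M hM).2
      omega
    have hj9 : ¬ 3 ∣ 5 * j ^ 2 := fun h => hj3 (Nat.prime_three.dvd_of_dvd_pow
      ((Nat.prime_three.dvd_mul.1 h).resolve_left (by norm_num)))
    have hOb : ∑ M ∈ O, (Nat.card M - 1) ≤ j ^ 2 := by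
      rcases Nat.lt_or_ge O.card 2 with e | e
      · rcases Nat.eq_zero_or_pos O.card with e0 | e0
        · rw [Finset.card_eq_zero.1 e0, Finset.sum_empty]; exact Nat.zero_le _
        · obtain ⟨M, hM⟩ := Finset.card_eq_one.1 (show O.card = 1 by omega)
          rw [hM, Finset.prod_singleton] at hN
          rw [hM, Finset.sum_singleton]
          have hMR := hOmem M (hM ▸ Finset.mem_singleton_self M)
          obtain ⟨-, -, h1, h3⟩ := F.basic M hMR.1
          obtain ⟨d, hd⟩ := hN
          have hd5 : 5 ≤ d := by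
            by_contra hlt
            interval_cases d
            · have := Nat.one_le_pow 2 j hj0
              omega
            · rw [mul_one] at hd
              have h5 : (5 * j ^ 2) % 3 = 2 := by
                have : j % 3 = 1 ∨ j % 3 = 2 := by omega
                rcases this with e' | e' <;> simp [Nat.mul_mod, Nat.pow_mod, e']
              omega
            · have : 2 ∣ 5 * j ^ 2 := hd ▸ dvd_mul_left 2 _
              exact hj2 (Nat.prime_two.dvd_of_dvd_pow
                ((Nat.prime_two.dvd_mul.1 this).resolve_left (by norm_num)))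
            · exact hj9 (hd ▸ dvd_mul_left 3 _)
            · have : 2 ∣ 5 * j ^ 2 := hd ▸ Dvd.dvd.mul_left (by norm_num) _
              exact hj2 (Nat.prime_two.dvd_of_dvd_pow
                ((Nat.prime_two.dvd_mul.1 this).resolve_left (by norm_num)))
          have : 5 * Nat.card M ≤ 5 * j ^ 2 := by rw [hd]; nlinarith
          omega
      · have h1 := (seven_sum_le O _ h7 e).1
        have h2 := Nat.le_of_dvd (by positivity) hN
        nlinarith
    obtain ⟨i, rfl⟩ := Nat.exists_eq_add_of_le hj5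
    nlinarith [show 4 * (5 + i) - 1 + 1 = 4 * (5 + i) by omega]
  · -- `n = 7`
    right
    have h168 : Nat.card G = 168 * j ^ 2 := by rw [hg]; ring
    have hvG : (Nat.card G).factorization 2 = 3 + 2 * j.factorization 2 := by
      rw [h168, Nat.factorization_mul (by norm_num) (by positivity), Finsupp.add_apply,
        factorization_two_eq (show ¬ 2 ∣ 21 by norm_num) (show 168 = 2 ^ 3 * 21 by norm_num),
        Nat.factorization_pow, Finsupp.smul_apply, smul_eq_mul]
    rw [hvG, Nat.factorization_mul hj0.ne' hA0.ne', Finsupp.add_apply] at hv'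
    have h2A : 2 ^ A.factorization 2 ≤ A := Nat.le_of_dvd hA0 (Nat.ordProj_dvd A 2)
    have hjodd : j.factorization 2 = 0 := by
      by_contra hne
      have := Nat.pow_le_pow_right (show 2 > 0 by norm_num) (show 4 ≤ A.factorization 2 by omega)
      omega
    have hA8 : A = 8 := by
      obtain ⟨k, hk⟩ := Nat.ordProj_dvd A 2
      rw [show A.factorization 2 = 3 by omega] at hk
      norm_num at hk
      omega
    rw [hjodd] at hvG
    have hj2 : ¬ 2 ∣ j := fun h =>
      (Nat.Prime.factorization_pos_of_dvd Nat.prime_two hj0.ne' h).ne' hjodd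
    have hT : 2 ^ (Nat.card G).factorization 2 = 8 := by rw [hvG]; norm_num
    have hEb : ∑ M ∈ E, (Nat.card M - 1) ≤ 3 * (4 * j - 1) := by
      refine (hUE (4 * j) fun M hM => Nat.le_of_dvd (by omega) ?_).trans (Nat.mul_le_mul_right _ hcount)
      obtain ⟨hMR, hM2⟩ := hEmem M hM
      have h1 := heven M hMR hM2
      rw [hA8] at h1
      rw [← Nat.ordProj_mul_ordCompl_eq_self (Nat.card M) 2, ← F.four hT M hMR hM2]
      refine mul_dvd_mul_left _ ?_
      have hco : (Nat.card M / 2 ^ (Nat.card M).factorization 2).Coprime 8 := by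
        rw [show (8 : ℕ) = 2 ^ 3 by norm_num]
        exact Nat.Coprime.pow_right _ (Nat.Coprime.symm (Nat.prime_two.coprime_iff_not_dvd.2
          (Nat.not_dvd_ordCompl Nat.prime_two Nat.card_pos.ne')))
      exact hco.dvd_of_dvd_mul_right ((Nat.ordCompl_dvd _ _).trans h1)
    have hOb : ∑ M ∈ O, (Nat.card M - 1) + 1 ≤ 7 * j ^ 2 :=
      (sum_pred_le_prod O _ fun M _ => Nat.card_pos).trans
        (Nat.le_of_dvd (by positivity) (hOprod _ (by rw [hT, h168]; ring)))
    suffices j = 1 by rw [h168, this]; norm_num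
    by_contra hj1
    have hj5 : 5 ≤ j := by omega
    obtain ⟨i, rfl⟩ := Nat.exists_eq_add_of_le hj5
    nlinarith [show 3 * (4 * (5 + i) - 1) + 3 = 12 * (5 + i) by omega]
  · -- `n = 10`
    exfalso
    have hj5 : j < 5 := by
      by_contra! hj5
      have h1 : 5 ^ 10 * 10 ^ 11 * j ^ 12 ≤ 880 ^ 6 * j ^ 12 := by
        calc 5 ^ 10 * 10 ^ 11 * j ^ 12 ≤ j ^ 10 * 10 ^ 11 * j ^ 12 :=
              Nat.mul_le_mul_right _ (Nat.mul_le_mul_right _ (Nat.pow_le_pow_left hj5 10))
          _ = (j ^ 2 * 10) ^ (10 + 1) := by ring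
          _ ≤ _ := hmain
          _ = _ := by ring
      have := Nat.le_of_mul_le_mul_right h1 (by positivity)
      norm_num at this
    have h2A : ∀ e, (Nat.card G).factorization 2 = e → 2 ^ e ∣ j * A ∧ ¬ 2 ^ (e + 1) ∣ j * A :=
      fun e he => by
        rw [← he, ← hv']
        exact ⟨Nat.ordProj_dvd _ _, Nat.pow_succ_factorization_not_dvd hjA Nat.prime_two⟩
    interval_cases j
    · omega
    · -- `j = 2`
      have hvG := factorization_two_eq (show ¬ 2 ∣ 165 by norm_num)
        (show Nat.card G = 2 ^ 3 * 165 by rw [hg]; norm_num)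
      obtain ⟨h1, h2⟩ := h2A 3 hvG
      norm_num at h1 h2
      obtain rfl : A = 4 := by omega
      have hT : 2 ^ (Nat.card G).factorization 2 = 8 := by rw [hvG]; norm_num
      have hEb : ∑ M ∈ E, (Nat.card M - 1) ≤ 3 * 7 :=
        (hUE 8 fun M hM => Nat.le_of_dvd (by norm_num)
          ((heven M (hEmem M hM).1 (hEmem M hM).2).trans (by norm_num))).trans
          (Nat.mul_le_mul_right _ hcount)
      have hO0 : O = ∅ := by
        refine Finset.eq_empty_of_forall_notMem fun M hM => ?_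
        have hd : Nat.card M ∣ 55 :=
          (Finset.dvd_prod_of_mem _ hM).trans (hOprod 55 (by rw [hT, hg]; norm_num))
        obtain ⟨-, -, h1', h3⟩ := F.basic M (hOmem M hM).1
        have hb := hB M (hOmem M hM).1
        have hd' : Nat.card M ∈ Nat.divisors 55 := Nat.mem_divisors.2 ⟨hd, by norm_num⟩
        rw [show Nat.divisors 55 = {1, 5, 11, 55} by decide] at hd'
        simp only [Finset.mem_insert, Finset.mem_singleton] at hd'
        omega
      rw [hO0, Finset.sum_empty] at hUsplit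
      omega
    · exact hj3 dvd_rfl
    · -- `j = 4`
      have hvG := factorization_two_eq (show ¬ 2 ∣ 165 by norm_num)
        (show Nat.card G = 2 ^ 5 * 165 by rw [hg]; norm_num)
      obtain ⟨h1, h2⟩ := h2A 5 hvG
      norm_num at h1 h2
      obtain rfl : A = 8 := by omega
      have hT : 2 ^ (Nat.card G).factorization 2 = 32 := by rw [hvG]; norm_num
      have hEb : ∑ M ∈ E, (Nat.card M - 1) ≤ 3 * 31 :=
        (hUE 32 fun M hM => Nat.le_of_dvd (by norm_num)
          ((heven M (hEmem M hM).1 (hEmem M hM).2).trans (by norm_num))).trans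
          (Nat.mul_le_mul_right _ hcount)
      have hOb : ∑ M ∈ O, (Nat.card M - 1) + 1 ≤ 55 :=
        (sum_pred_le_prod O _ fun M _ => Nat.card_pos).trans
          (Nat.le_of_dvd (by norm_num) (hOprod _ (by rw [hT, hg]; norm_num)))
      omega
  · -- `n = 13`
    exfalso
    have hj1 : j = 1 := by
      by_contra hj1
      have h1 : 2 ^ 16 * 13 ^ 14 * j ^ 12 ≤ 1456 ^ 6 * j ^ 12 := by
        calc 2 ^ 16 * 13 ^ 14 * j ^ 12 ≤ j ^ 16 * 13 ^ 14 * j ^ 12 :=
              Nat.mul_le_mul_right _ (Nat.mul_le_mul_right _ (Nat.pow_le_pow_left (by omega) 16))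
          _ = (j ^ 2 * 13) ^ (13 + 1) := by ring
          _ ≤ _ := hmain
          _ = _ := by ring
      have := Nat.le_of_mul_le_mul_right h1 (by positivity)
      norm_num at this
    subst hj1
    omega

/-- The structure theorem. -/
theorem concl_aux (n : ℕ) : ∀ (G : Type u) [Group G] [Finite G], Nat.card G = n →
    ∀ x : G, Hyp x → Concl G := by
  induction n using Nat.strong_induction_on with
  | _ n ih =>
    intro G _ _ hn x h
    refine reduce h (fun N _ hN1 hN3 => ih _ ?_ (G ⧸ N) rfl (QuotientGroup.mk' N x) (h.quot hN3))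
      fun hs ht => ?_
    · rw [← hn, ← Subgroup.index_eq_card]
      rw [← N.card_mul_index]
      exact lt_mul_left (Nat.pos_of_ne_zero Subgroup.FiniteIndex.index_ne_zero) (Subgroup.one_lt_card_iff_ne_bot N |>.2 hN1)
    · obtain ⟨t, ht⟩ := ht
      have S : Setting x t := ⟨h, ht, hs, fun L hL hx => ih _ (by
        rw [← hn]
        exact lt_of_le_of_ne (Nat.le_of_dvd Nat.card_pos (Subgroup.card_subgroup_dvd_card L))
          fun e => hL (Subgroup.eq_top_of_card_eq L e)) L rfl ⟨x, hx⟩ (h.sub L hx)⟩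
      refine ⟨⊥, inferInstance, P3.bot, Or.inr (Or.inr ⟨?_, IsPGroup.of_bot, fun _ => rfl,
        fun N hN _ => hN.eq_bot_or_eq_top⟩)⟩
      rw [Subgroup.index_bot]
      exact S.card_eq

theorem concl {G : Type u} [Group G] [Finite G] {x : G} (h : Hyp x) : Concl G :=
  concl_aux _ G rfl x h

end Cfsg.Lib.SelfCentThree
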