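import Cfsg.Agent.SelfCentThree.Family
import Cfsg.Agent.Chars.Sums
import Cfsg.Agent.Chars.Values
import Cfsg.Agent.Chars.Induced
import Cfsg.Agent.Chars.Construct
import Cfsg.Agent.Small.Toolkit
import Cfsg.Agent.Small.SelfCentralizing

/-!
Groups with a self-centralising subgroup of order three: the exceptional characters of a simple one.
-/

set_option linter.unusedSectionVars false

namespace Cfsg.Lib.SelfCentThree

open Subgroup Cfsg.Lib.Chars
open scoped ComplexConjugate

universe u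

theorem sum_cube_roots (s : Multiset ℂ) (h : ∀ z ∈ s, z ^ 3 = 1) :
    ∃ F : ℕ, s.sum + conj s.sum = 3 * (F : ℂ) - (Multiset.card s : ℂ) := by
  induction s using Multiset.induction_on with
  | empty => exact ⟨0, by simp⟩
  | cons z s ih =>
    obtain ⟨F, hF⟩ := ih fun w hw => h w (Multiset.mem_cons_of_mem hw)
    have hz := h z (Multiset.mem_cons_self z s)
    have hfac : (z - 1) * (z ^ 2 + z + 1) = 0 := by linear_combination hz
    rcases mul_eq_zero.1 hfac with e | e
    · refine ⟨F + 1, ?_⟩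
      rw [sub_eq_zero.1 e, Multiset.sum_cons, Multiset.card_cons, map_add, map_one]
      push_cast
      linear_combination hF
    · refine ⟨F, ?_⟩
      have hre := congrArg Complex.re e
      have him := congrArg Complex.im e
      simp [pow_two, Complex.mul_re, Complex.mul_im] at hre him
      have h2 : z + conj z = -1 := by
        rw [Complex.add_conj]
        have : z.im * (2 * z.re + 1) = 0 := by linarith
        rcases mul_eq_zero.1 this with e' | e'
        · rw [e'] at hre
          nlinarith [sq_nonneg (z.re + 1 / 2)]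
        · rw [show (2 : ℝ) * z.re = -1 by linarith]
          norm_num
      rw [Multiset.sum_cons, Multiset.card_cons, map_add]
      push_cast
      linear_combination h2 + hF

theorem sum_square_roots (s : Multiset ℂ) (h : ∀ z ∈ s, z ^ 2 = 1) :
    ∃ k : ℕ, k ≤ Multiset.card s ∧ s.sum = 2 * (k : ℂ) - (Multiset.card s : ℂ) := by
  induction s using Multiset.induction_on with
  | empty => exact ⟨0, by simp⟩
  | cons z s ih =>
    obtain ⟨k, hk, hs⟩ := ih fun w hw => h w (Multiset.mem_cons_of_mem hw)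
    rcases sq_eq_one_iff.1 (h z (Multiset.mem_cons_self z s)) with rfl | rfl
    · refine ⟨k + 1, by simpa using hk, ?_⟩
      rw [Multiset.sum_cons, Multiset.card_cons, hs]
      push_cast; ring
    · refine ⟨k, by rw [Multiset.card_cons]; omega, ?_⟩
      rw [Multiset.sum_cons, Multiset.card_cons, hs]
      push_cast; ring

variable {G : Type u} [Group G] [Finite G] {x t : G}

/-- The value of a character on an element of order three conjugate to its inverse. -/
theorem value_three (hx : orderOf x = 3) (hxi : IsConj x x⁻¹) (χ : Cfsg.IrrCharacter G) :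
    ∃ z : ℤ, ∃ F : ℕ, (χ : G → ℂ) x = (z : ℂ) ∧ 2 * z = 3 * (F : ℤ) - deg (χ : G → ℂ) := by
  have hreal : conj ((χ : G → ℂ) x) = (χ : G → ℂ) x := by
    rw [← IsCharacter.conj_inv (isCharacter_of_irr χ.2)]
    exact (classFunction_eq_of_isConj (isClassFunction_irr χ) hxi).symm
  have hint := IsCharacter.isIntegral (isCharacter_of_irr χ.2) x
  obtain ⟨n, ρ, -, hρ⟩ := χ.2
  obtain ⟨F, hF⟩ := sum_cube_roots (eigs ρ x) fun z hz =>
    pow_eq_one_of_mem_eigs ρ (hx ▸ pow_orderOf_eq_one x) hz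
  rw [← character_eq_sum_eigs, card_eigs, hρ, hreal] at hF
  have hdeg : deg (χ : G → ℂ) = Module.finrank ℂ (Fin n → ℂ) := by
    have h1 : (χ : G → ℂ) 1 = ((Module.finrank ℂ (Fin n → ℂ) : ℕ) : ℂ) := by rw [← hρ]; exact ρ.char_one
    rw [irr_apply_one_eq_deg] at h1
    exact_mod_cast h1
  rw [← hdeg] at hF
  have hq : (χ : G → ℂ) x = (((3 * (F : ℚ) - deg (χ : G → ℂ)) / 2 : ℚ) : ℂ) := by
    push_cast
    linear_combination hF / 2
  rw [hq] at hint
  obtain ⟨z, hz⟩ := int_of_isIntegral_rat hint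
  refine ⟨z, F, by rw [hq, hz]; push_cast; rfl, ?_⟩
  have : (2 : ℚ) * z = 3 * (F : ℚ) - deg (χ : G → ℂ) := by rw [← hz]; ring
  exact_mod_cast this

/-- The value of a character on an involution. -/
theorem value_two {s : G} (hs : s * s = 1) (χ : Cfsg.IrrCharacter G) :
    ∃ k : ℕ, k ≤ deg (χ : G → ℂ) ∧ (χ : G → ℂ) s = ((2 * (k : ℤ) - deg (χ : G → ℂ) : ℤ) : ℂ) := by
  obtain ⟨n, ρ, -, hρ⟩ := χ.2
  obtain ⟨k, hk, hs'⟩ := sum_square_roots (eigs ρ s) fun z hz =>
    pow_eq_one_of_mem_eigs ρ (by rw [pow_two]; exact hs) hz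
  rw [← character_eq_sum_eigs, card_eigs, hρ] at hs'
  have hdeg : deg (χ : G → ℂ) = Module.finrank ℂ (Fin n → ℂ) := by
    have h1 : (χ : G → ℂ) 1 = ((Module.finrank ℂ (Fin n → ℂ) : ℕ) : ℂ) := by rw [← hρ]; exact ρ.char_one
    rw [irr_apply_one_eq_deg] at h1
    exact_mod_cast h1
  rw [card_eigs, ← hdeg] at hk
  refine ⟨k, hk, ?_⟩
  rw [hs', hdeg]
  push_cast
  ring

variable (S : Setting x t)
include S

theorem Setting.isConj_inv : IsConj x x⁻¹ := isConj_iff.2 ⟨t, S.inverts.conj⟩

theorem Setting.centralizer_x : Nat.card (centralizer ({x} : Set G)) = 3 := by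
  have : centralizer ({x} : Set G) = zpowers x := le_antisymm
    (fun g hg => S.hyp.cent g (mem_centralizer_singleton_iff.1 hg))
    (zpowers_le.2 (mem_centralizer_singleton_iff.2 rfl))
  rw [this, Nat.card_zpowers, S.hyp.ord]

theorem Setting.not_comm : ¬ ∀ a b : G, a * b = b * a := fun h =>
  S.inverts.not_mem S.hyp (S.hyp.cent t (h t x))

/-- The two exceptional characters. -/
theorem Setting.exists_exceptional : ∃ (χ ψ : Cfsg.IrrCharacter G) (n : ℕ), 4 ≤ n ∧ n % 3 = 1 ∧
    deg (χ : G → ℂ) = n ∧ deg (ψ : G → ℂ) = n + 1 ∧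
    (χ : G → ℂ) x = 1 ∧ (ψ : G → ℂ) x = -1 ∧
    (∀ f : Cfsg.IrrCharacter G → ℂ, (∀ ξ : Cfsg.IrrCharacter G, (ξ : G → ℂ) x = 0 → f ξ = 0) →
      ∑ ξ, f ξ = f (principal G) + f χ + f ψ) := by
  classical
  have := Fintype.ofFinite G
  have := S.simple
  have hval := fun ξ => value_three S.hyp.ord S.isConj_inv ξ
  choose z F hz hzF using hval
  have hso := second_orthogonality x x
  rw [if_pos (IsConj.refl x), S.centralizer_x, Nat.cast_ofNat] at hso
  have hsq : ∑ ξ, z ξ * z ξ = 3 := by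
    have : ((∑ ξ, z ξ * z ξ : ℤ) : ℂ) = ((3 : ℤ) : ℂ) := by
      push_cast
      rw [← hso]
      exact Finset.sum_congr rfl fun ξ _ => by rw [hz, map_intCast]
    exact_mod_cast this
  have hlin : ∑ ξ, z ξ * (deg (ξ : G → ℂ) : ℤ) = 0 := by
    have h1 := second_orthogonality x (1 : G)
    rw [if_neg (fun h => S.hyp.ne_one (isConj_one_right.1 h.symm))] at h1
    have : ((∑ ξ, z ξ * (deg (ξ : G → ℂ) : ℤ) : ℤ) : ℂ) = ((0 : ℤ) : ℂ) := by
      push_cast
      rw [← h1]
      exact Finset.sum_congr rfl fun ξ _ => by rw [hz, irr_apply_one_eq_deg, Complex.conj_natCast]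
    exact_mod_cast this
  set χ₀ := principal G with hχ₀
  have hz0 : z χ₀ = 1 := by
    have : ((z χ₀ : ℤ) : ℂ) = ((1 : ℤ) : ℂ) := by rw [← hz χ₀, Int.cast_one]; rfl
    exact_mod_cast this
  have hd0 : deg (χ₀ : G → ℂ) = 1 := by
    have : ((deg (χ₀ : G → ℂ) : ℕ) : ℂ) = ((1 : ℕ) : ℂ) := by
      rw [← irr_apply_one_eq_deg χ₀, Nat.cast_one]; rfl
    exact_mod_cast this
  set m : Cfsg.IrrCharacter G → ℤ := fun ξ => if ξ = χ₀ then 0 else z ξ with hm
  have hsplit : ∀ f : Cfsg.IrrCharacter G → ℤ,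
      ∑ ξ, f ξ = f χ₀ + ∑ ξ, (if ξ = χ₀ then 0 else f ξ) := fun f => by
    rw [← Finset.add_sum_erase _ f (Finset.mem_univ χ₀),
      ← Finset.add_sum_erase _ (fun ξ => if ξ = χ₀ then 0 else f ξ) (Finset.mem_univ χ₀), if_pos rfl,
      zero_add]
    congr 1
    exact Finset.sum_congr rfl fun ξ hξ => (if_neg (Finset.ne_of_mem_erase hξ)).symm
  have hm2 : ∑ ξ, m ξ ^ 2 = 2 := by
    rw [hsplit, hz0] at hsq
    have : ∑ ξ, m ξ ^ 2 = ∑ ξ, (if ξ = χ₀ then 0 else z ξ * z ξ) := Finset.sum_congr rfl fun ξ _ => by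
      simp only [hm]; split_ifs <;> ring
    omega
  obtain ⟨χ, ψ, hne, hχ, hψ, hzero⟩ := Cfsg.Lib.Small.exists_support_of_sum_sq_eq_two m hm2
  have hχ0 : χ ≠ χ₀ := fun e => by simp [hm, e] at hχ
  have hψ0 : ψ ≠ χ₀ := fun e => by simp [hm, e] at hψ
  simp only [hm, if_neg hχ0] at hχ
  simp only [hm, if_neg hψ0] at hψ
  have hzero' : ∀ ξ, ξ ≠ χ₀ → ξ ≠ χ → ξ ≠ ψ → z ξ = 0 := fun ξ h0 h1 h2 => by
    simpa [hm, if_neg h0] using hzero ξ h1 h2
  have h3 : ∀ f : Cfsg.IrrCharacter G → ℂ, (∀ ξ : Cfsg.IrrCharacter G, (ξ : G → ℂ) x = 0 → f ξ = 0) →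
      ∑ ξ, f ξ = f χ₀ + f χ + f ψ := fun f hf => by
    rw [← Finset.sum_subset (Finset.subset_univ ({χ₀, χ, ψ} : Finset (Cfsg.IrrCharacter G)))
      fun ξ _ hξ => ?_, Finset.sum_insert (by simp [hχ0.symm, hψ0.symm]), Finset.sum_pair hne, add_assoc]
    simp only [Finset.mem_insert, Finset.mem_singleton, not_or] at hξ
    exact hf ξ (by rw [hz, hzero' ξ hξ.1 hξ.2.1 hξ.2.2, Int.cast_zero])
  have hlin' : (1 : ℤ) + z χ * deg (χ : G → ℂ) + z ψ * deg (ψ : G → ℂ) = 0 := by
    have h4 := h3 (fun ξ => ((z ξ * (deg (ξ : G → ℂ) : ℤ) : ℤ) : ℂ)) fun ξ hξ => by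
      have : z ξ = 0 := by rw [hz] at hξ; exact_mod_cast hξ
      simp [this]
    rw [← Int.cast_sum, hlin, hz0, hd0] at h4
    have h5 : ((0 : ℤ) : ℂ) = ((1 + z χ * deg (χ : G → ℂ) + z ψ * deg (ψ : G → ℂ) : ℤ) : ℂ) := by
      rw [h4]; push_cast; ring
    exact (Int.cast_injective h5).symm
  have hpχ := deg_irr_pos χ
  have hpψ := deg_irr_pos ψ
  -- orient the pair
  obtain ⟨χ, ψ, h1, h2, h3, hd, hχ0⟩ : ∃ χ ψ : Cfsg.IrrCharacter G, z χ = 1 ∧ z ψ = -1 ∧
      (∀ f : Cfsg.IrrCharacter G → ℂ, (∀ ξ : Cfsg.IrrCharacter G, (ξ : G → ℂ) x = 0 → f ξ = 0) →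
        ∑ ξ, f ξ = f χ₀ + f χ + f ψ) ∧
      deg (ψ : G → ℂ) = deg (χ : G → ℂ) + 1 ∧ χ ≠ χ₀ := by
    rcases hχ with e | e <;> rcases hψ with e' | e' <;> rw [e, e'] at hlin'
    · omega
    · exact ⟨χ, ψ, e, e', h3, by omega, hχ0⟩
    · exact ⟨ψ, χ, e', e, fun f hf => by rw [h3 f hf]; ring, by omega, hψ0⟩
    · refine absurd ?_ S.not_comm
      exfalso
      have h4 : deg (χ : G → ℂ) + deg (ψ : G → ℂ) = 1 := by omega
      omega
  refine ⟨χ, ψ, deg (χ : G → ℂ), ?_, ?_, rfl, hd, by rw [hz, h1, Int.cast_one],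
    by rw [hz, h2, Int.cast_neg, Int.cast_one], h3⟩
  · have hn : deg (χ : G → ℂ) % 3 = 1 := by
      have := hzF χ
      rw [h1] at this
      omega
    have hn1 : deg (χ : G → ℂ) ≠ 1 := fun e => by
      obtain ⟨φ, hφ⟩ := exists_hom_of_deg_one (isCharacter_of_irr χ.2)
        (by rw [irr_apply_one_eq_deg, e, Nat.cast_one])
      refine hχ0 (Subtype.ext ?_)
      rw [hφ]
      funext g
      rw [Cfsg.Lib.Small.eq_one_of_monoidHom S.not_comm φ g, Units.val_one]
      rfl
    omega
  · have := hzF χ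
    rw [h1] at this
    omega

theorem Setting.ker_trivial {χ : Cfsg.IrrCharacter G} (hx : (χ : G → ℂ) x ≠ (χ : G → ℂ) 1) {g : G}
    (hg : (χ : G → ℂ) g = (χ : G → ℂ) 1) : g = 1 := by
  have := kerSubgroup_normal (isCharacter_of_irr χ.2)
  rcases S.simple.eq_bot_or_eq_top_of_normal _ this with e | e
  · exact mem_bot.1 (e ▸ (mem_kerSubgroup (isCharacter_of_irr χ.2) g).2 hg)
  · exact absurd ((mem_kerSubgroup (isCharacter_of_irr χ.2) x).1 (e ▸ mem_top x)) hx

theorem Setting.involution_not_scalar {χ : Cfsg.IrrCharacter G}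
    (hx : (χ : G → ℂ) x ≠ (χ : G → ℂ) 1) : ‖(χ : G → ℂ) t‖ ≠ (deg (χ : G → ℂ) : ℝ) := by
  intro hn
  obtain ⟨n, ρ, -, hρ⟩ := χ.2
  have hdeg : deg (χ : G → ℂ) = Module.finrank ℂ (Fin n → ℂ) := by
    have h1 : (χ : G → ℂ) 1 = ((Module.finrank ℂ (Fin n → ℂ) : ℕ) : ℂ) := by rw [← hρ]; exact ρ.char_one
    rw [irr_apply_one_eq_deg] at h1
    exact_mod_cast h1
  rw [hdeg, ← hρ] at hn
  obtain ⟨ω, hω, -⟩ := scalar_of_norm_character_eq ρ t hn
  have h1 : ρ (x⁻¹) = LinearMap.id := by
    have e : x * t * x⁻¹ * t⁻¹ = x⁻¹ := by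
      rw [show x * t * x⁻¹ * t⁻¹ = x * (t * x⁻¹ * t⁻¹) by group, S.inverts.conj_inv, S.hyp.mul_self]
    have hc : ρ x * ρ t = ρ t * ρ x := by
      rw [hω, Algebra.mul_smul_comm, Algebra.smul_mul_assoc]; rfl
    rw [← e, map_mul, map_mul, map_mul, hc, mul_assoc (ρ t), ← map_mul ρ x, mul_inv_cancel, map_one,
      mul_one, ← map_mul, mul_inv_cancel, map_one]
    rfl
  have h2 : (χ : G → ℂ) x⁻¹ = (χ : G → ℂ) 1 := by
    rw [← hρ, (eq_id_of_character_eq_finrank ρ x⁻¹).2 h1, ρ.char_one]
  exact S.hyp.ne_one (inv_eq_one.1 (S.ker_trivial hx h2))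

theorem Setting.conj_t {g : G} (hg : g ∈ zpowers x) : IsConj t (t * g) := by
  rcases S.hyp.mem_three hg with e | e | e <;> rw [e]
  · rw [mul_one]
  · refine isConj_iff.2 ⟨x, ?_⟩
    have e1 : x * t = t * x⁻¹ := (mul_inv_eq_iff_eq_mul.1 S.inverts.conj_inv).symm
    rw [e1, mul_assoc, ← mul_inv_rev, S.hyp.mul_self, inv_inv]
  · refine isConj_iff.2 ⟨x⁻¹, ?_⟩
    have e1 : x⁻¹ * t = t * x := (mul_inv_eq_iff_eq_mul.1 S.inverts.conj).symm
    rw [e1, inv_inv, mul_assoc, S.hyp.mul_self]

/-- The numerical consequences of the exceptional characters. -/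
theorem Setting.exists_numbers {R : Finset (Subgroup G)} (F : Family x t R) :
    ∃ n j A : ℕ, Nat.card G = 3 * j ^ 2 * (n * (n + 1)) ∧ n % 3 = 1 ∧ 4 ≤ n ∧ ¬ 3 ∣ j ∧ ¬ 3 ∣ A ∧
      2 ∣ A ∧ 0 < A ∧ A < 2 * n ∧
      2 ^ (j * A).factorization 2 = 2 ^ (Nat.card G).factorization 2 ∧ 4 ∣ Nat.card G ∧
      (∀ M ∈ R, 2 ∣ Nat.card M → Nat.card M ∣ j * A) ∧ (∀ M ∈ R, Nat.card M ≤ j ^ 2 * n) ∧
      j ^ 2 * (n ^ 2 + n + 1) ≤ 6 * (∑ M ∈ R, (Nat.card M - 1)) + 3 := by
  classical
  have := Fintype.ofFinite G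
  have := S.simple
  have : Fact (Nat.Prime 2) := ⟨Nat.prime_two⟩
  obtain ⟨χ, ψ, n, hn4, hn3, hdχ, hdψ, hχx, hψx, hsum⟩ := S.exists_exceptional
  have hχ1 : (χ : G → ℂ) 1 = (n : ℂ) := by rw [irr_apply_one_eq_deg, hdχ]
  have hψ1 : (ψ : G → ℂ) 1 = (n : ℂ) + 1 := by rw [irr_apply_one_eq_deg, hdψ]; push_cast; ring
  have hp : ∀ g, (principal G : G → ℂ) g = 1 := fun g => rfl
  have hχne : (χ : G → ℂ) x ≠ (χ : G → ℂ) 1 := by
    rw [hχx, hχ1]; intro e
    have : (1 : ℕ) = n := by exact_mod_cast e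
    omega
  -- values off the class of `x`
  have hrel : ∀ g : G, ¬ IsConj g x → 1 + (χ : G → ℂ) g - (ψ : G → ℂ) g = 0 := fun g hg => by
    have h1 := second_orthogonality g x
    rw [if_neg hg, hsum _ fun ξ hξ => by rw [hξ, map_zero, mul_zero]] at h1
    rw [hp, hp, hχx, hψx, map_one, map_neg, map_one] at h1
    linear_combination h1
  obtain ⟨k, hk, hat⟩ := value_two S.inverts.sq χ
  rw [hdχ] at hk hat
  set a : ℤ := 2 * (k : ℤ) - n with ha
  have hak : k ≠ 0 ∧ k ≠ n := by
    refine ⟨fun e => S.involution_not_scalar hχne ?_, fun e => S.involution_not_scalar hχne ?_⟩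
    · rw [hat, hdχ, Complex.norm_intCast]
      have : a = -(n : ℤ) := by rw [ha, e]; simp
      rw [this]; push_cast; rw [abs_neg, Nat.abs_cast]
    · rw [hat, hdχ, Complex.norm_intCast]
      have : a = (n : ℤ) := by rw [ha, e]; ring
      rw [this]; push_cast; rw [Nat.abs_cast]
  set A := 2 * (n - k) with hA
  have hAa : (A : ℂ) = (n : ℂ) - (a : ℂ) := by
    rw [ha, hA, Nat.cast_mul, Nat.cast_sub hk]; push_cast; ring
  have hinv_conj : ∀ s : G, s * s = 1 → s ≠ 1 → ¬ IsConj s x := fun s hs hs1 h => by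
    obtain ⟨c, hc⟩ := isConj_iff.1 h
    have : x * x = 1 := by rw [← hc]; simp [mul_assoc, hs]; rw [← mul_assoc s s, hs, one_mul, mul_inv_cancel]
    rw [S.hyp.mul_self, inv_eq_one] at this
    exact S.hyp.ne_one this
  have hn0 : (n : ℂ) ≠ 0 := by exact_mod_cast (show n ≠ 0 by omega)
  have hn10 : (n : ℂ) + 1 ≠ 0 := by exact_mod_cast (show n + 1 ≠ 0 by omega)
  have hG0 : (Nat.card G : ℂ) ≠ 0 := by exact_mod_cast Nat.card_pos.ne'
  set c := Nat.card (centralizer ({t} : Set G)) with hc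
  set T := Nat.card {y : G // IsConj t y} with hT
  have hTc : T * c = Nat.card G := card_isConj_mul t
  -- products of two involutions equal to `x`
  have hmult : ∀ s : G, s * s = 1 → s ≠ 1 →
      (Nat.card {p : G × G // IsConj t p.1 ∧ IsConj s p.2 ∧ p.1 * p.2 = x} : ℂ) =
        if IsConj t s then 3 else 0 := by
    intro s hs hs1
    have key : ∀ p : G × G, IsConj t p.1 → IsConj s p.2 → p.1 * p.2 = x →
        t * p.1 ∈ zpowers x ∧ IsConj t s := by
      intro p h1 h2 h3
      have hp1 : p.1 * p.1 = 1 := by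
        obtain ⟨c, hc⟩ := isConj_iff.1 h1
        rw [← hc, show c * t * c⁻¹ * (c * t * c⁻¹) = c * (t * t) * c⁻¹ by group, S.inverts.sq]; group
      have hp2 : p.2 * p.2 = 1 := by
        obtain ⟨c, hc⟩ := isConj_iff.1 h2
        rw [← hc, show c * s * c⁻¹ * (c * s * c⁻¹) = c * (s * s) * c⁻¹ by group, hs]; group
      have hinv : p.1 * x * p.1⁻¹ = x⁻¹ := by
        rw [← h3, mul_inv_rev, ← mul_assoc p.1, hp1, one_mul, inv_eq_of_mul_eq_one_left hp2]
      have hm : t * p.1 ∈ zpowers x := by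
        refine S.hyp.cent _ (mul_inv_eq_iff_eq_mul.1 ?_)
        calc t * p.1 * x * (t * p.1)⁻¹ = t * (p.1 * x * p.1⁻¹) * t⁻¹ := by group
          _ = x := by rw [hinv, S.inverts.conj_inv]
      refine ⟨hm, ?_⟩
      have hp2' : p.2 = t * (t * p.1 * x) := by
        rw [← h3, ← mul_assoc (t * p.1) p.1, mul_assoc t p.1 p.1, hp1, mul_one, ← mul_assoc,
          S.inverts.sq, one_mul]
      have h4 : IsConj t p.2 := hp2' ▸ S.conj_t (mul_mem hm (mem_zpowers x))
      exact h4.trans h2.symm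
    have second : ∀ p q : G, p * p = 1 → p * q = x → t * (t * p * x) = q := fun p q hp h => by
      rw [← h, ← mul_assoc (t * p) p, mul_assoc t p p, hp, mul_one, ← mul_assoc, S.inverts.sq, one_mul]
    split_ifs with h
    · have e : {p : G × G // IsConj t p.1 ∧ IsConj s p.2 ∧ p.1 * p.2 = x} ≃ zpowers x :=
        { toFun := fun p => ⟨t * p.1.1, (key p.1 p.2.1 p.2.2.1 p.2.2.2).1⟩
          invFun := fun y => ⟨(t * y.1, t * (y.1 * x)), S.conj_t y.2,
            h.symm.trans (S.conj_t (mul_mem y.2 (mem_zpowers x))), by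
              show t * y.1 * (t * (y.1 * x)) = x
              have h5 : t * y.1 * t = y.1⁻¹ := by
                obtain ⟨i, hi⟩ := mem_zpowers_iff.1 y.2
                rw [← hi, ← zpow_neg, show t * x ^ i * t = t * x ^ i * t⁻¹ by rw [S.inverts.inv_eq],
                  ← conj_zpow, S.inverts.conj, inv_zpow']
              rw [← mul_assoc (t * y.1) t, h5, inv_mul_cancel_left]⟩
          left_inv := fun p => by
            refine Subtype.ext (Prod.ext ?_ ?_)
            · show t * (t * p.1.1) = p.1.1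
              rw [← mul_assoc, S.inverts.sq, one_mul]
            · show t * (t * p.1.1 * x) = p.1.2
              obtain ⟨c, hc⟩ := isConj_iff.1 p.2.1
              have hp1 : p.1.1 * p.1.1 = 1 := by
                rw [← hc, show c * t * c⁻¹ * (c * t * c⁻¹) = c * (t * t) * c⁻¹ by group, S.inverts.sq]; group
              exact second p.1.1 p.1.2 hp1 p.2.2.2
          right_inv := fun y => Subtype.ext (show t * (t * y.1) = y.1 by rw [← mul_assoc, S.inverts.sq, one_mul]) }
      rw [Nat.card_congr e, Nat.card_zpowers, S.hyp.ord]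
      norm_num
    · have : IsEmpty {p : G × G // IsConj t p.1 ∧ IsConj s p.2 ∧ p.1 * p.2 = x} :=
        ⟨fun p => h (key p.1 p.2.1 p.2.2.1 p.2.2.2).2⟩
      rw [Nat.card_of_isEmpty, Nat.cast_zero]
  have hS : ∀ s : G, s * s = 1 → s ≠ 1 →
      ((T : ℂ) * (Nat.card {y : G // IsConj s y} : ℂ)) * ((A : ℂ) * ((n : ℂ) - (χ : G → ℂ) s)) =
        (if IsConj t s then 3 else 0) * ((Nat.card G : ℂ) * ((n : ℂ) * ((n : ℂ) + 1))) := by
    intro s hs hs1
    rw [← hmult s hs hs1, class_mult_formula t s x, hsum _ fun ξ hξ => by rw [hξ, map_zero, mul_zero, zero_div],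
      hp, hp, hp, hp, map_one, hχx, hψx, hχ1, hψ1, map_one, map_neg, map_one,
      show (ψ : G → ℂ) t = 1 + (χ : G → ℂ) t from
        (sub_eq_zero.1 (hrel t (hinv_conj t S.inverts.sq (S.inverts.ne_one S.hyp)))).symm,
      show (ψ : G → ℂ) s = 1 + (χ : G → ℂ) s from (sub_eq_zero.1 (hrel s (hinv_conj s hs hs1))).symm,
      hat, hAa]
    field_simp
    ring
  -- one class of involutions
  have hA0 : A ≠ 0 := by omega
  have hclass : ∀ s : G, s * s = 1 → s ≠ 1 → IsConj t s := by
    intro s hs hs1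
    by_contra h
    have h1 := hS s hs hs1
    rw [if_neg h, zero_mul] at h1
    have hT0 : (T : ℂ) ≠ 0 := by exact_mod_cast (card_isConj_pos t).ne'
    have hs0 : (Nat.card {y : G // IsConj s y} : ℂ) ≠ 0 := by exact_mod_cast (card_isConj_pos s).ne'
    have hA0' : (A : ℂ) ≠ 0 := by exact_mod_cast hA0
    rcases mul_eq_zero.1 h1 with e | e
    · exact (mul_ne_zero hT0 hs0) e
    rcases mul_eq_zero.1 e with e | e
    · exact hA0' e
    · exact hs1 (S.ker_trivial hχne (by rw [hχ1]; exact (sub_eq_zero.1 e).symm))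
  have hI : 3 * c ^ 2 * (n * (n + 1)) = Nat.card G * A ^ 2 := by
    have h1 := hS t S.inverts.sq (S.inverts.ne_one S.hyp)
    rw [if_pos (IsConj.refl t), hat, ← hAa] at h1
    have h2 : T * T * (A * A) = 3 * (Nat.card G * (n * (n + 1))) := by exact_mod_cast h1
    refine Nat.eq_of_mul_eq_mul_left (Nat.card_pos (α := G)) ?_
    calc Nat.card G * (3 * c ^ 2 * (n * (n + 1))) = c ^ 2 * (3 * (Nat.card G * (n * (n + 1)))) := by ring
      _ = c ^ 2 * (T * T * (A * A)) := by rw [h2]
      _ = (T * c) * (T * c) * (A * A) := by ring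
      _ = Nat.card G * (Nat.card G * A ^ 2) := by rw [hTc]; ring
  -- products of two conjugates of `x` equal to `x`
  set P := Nat.card {p : G × G // IsConj x p.1 ∧ IsConj x p.2 ∧ p.1 * p.2 = x} with hP
  have hPeq : 9 * P * (n * (n + 1)) = Nat.card G * (n ^ 2 + n + 1) := by
    have h1 := class_mult_formula x x x
    rw [← hP, hsum _ fun ξ hξ => by rw [hξ, map_zero, mul_zero, zero_div], hp, hp, map_one, hχx, hψx,
      hχ1, hψ1, map_one, map_neg, map_one] at h1
    set X := Nat.card {y : G // IsConj x y} with hX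
    have hX3 : (X : ℂ) * 3 = (Nat.card G : ℂ) := by
      have := card_isConj_mul x
      rw [S.centralizer_x] at this
      exact_mod_cast this
    have h2 : ((9 * P * (n * (n + 1)) : ℕ) : ℂ) = ((Nat.card G * (n ^ 2 + n + 1) : ℕ) : ℂ) := by
      push_cast
      rw [h1, show (Nat.card G : ℂ) = (X : ℂ) * 3 from hX3.symm]
      field_simp
      ring
    exact_mod_cast h2
  have hPle : P ≤ 2 * (∑ M ∈ R, (Nat.card M - 1)) + 1 := by
    let U : Finset G := insert 1 (R.biUnion fun M : Subgroup G =>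
      (Finset.univ.filter fun a => a ∈ M ∧ a ≠ 1) ∪
        (Finset.univ.filter fun a => t * a * t⁻¹ ∈ M ∧ a ≠ 1))
    have hcardM : ∀ M : Subgroup G, (Finset.univ.filter fun a => a ∈ M ∧ a ≠ 1).card = Nat.card M - 1 :=
      fun M => by
        have : (Finset.univ.filter fun a => a ∈ M ∧ a ≠ 1) = (Finset.univ.filter fun a => a ∈ M).erase 1 := by
          ext a; simp [and_comm]
        rw [this, Finset.card_erase_of_mem (by simp), Nat.card_eq_fintype_card,
          Fintype.card_subtype]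
    have hU : U.card ≤ 2 * (∑ M ∈ R, (Nat.card M - 1)) + 1 := by
      refine (Finset.card_insert_le _ _).trans (Nat.succ_le_succ ?_)
      refine Finset.card_biUnion_le.trans ?_
      rw [Finset.mul_sum]
      refine Finset.sum_le_sum fun M _ => (Finset.card_union_le _ _).trans ?_
      have : (Finset.univ.filter fun a => t * a * t⁻¹ ∈ M ∧ a ≠ 1).card ≤
          (Finset.univ.filter fun a => a ∈ M ∧ a ≠ 1).card :=
        Finset.card_le_card_of_injOn (fun a => t * a * t⁻¹)
          (fun a ha => by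
            simp only [Finset.coe_filter, Finset.mem_univ, true_and, Set.mem_setOf_eq] at ha ⊢
            exact ⟨ha.1, fun e => ha.2 (conj_eq_one_iff.1 e)⟩)
          fun a _ b _ e => MulAut.conj t |>.injective e
      rw [hcardM] at this ⊢
      omega
    refine le_trans ?_ hU
    have hmem : ∀ p : {p : G × G // IsConj x p.1 ∧ IsConj x p.2 ∧ p.1 * p.2 = x}, x * p.1.1 ∈ U := by
      rintro ⟨⟨p, q⟩, h1, h2, h3⟩
      simp only at h1 h2 h3 ⊢
      set a := x * p with hadef
      have cube : ∀ {w : G}, IsConj x w → w ^ 3 = 1 := fun hw => by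
        obtain ⟨c, hc⟩ := isConj_iff.1 hw
        rw [← hc, conj_pow, S.hyp.pow3]; group
      have hp' : p = x⁻¹ * a := by rw [hadef, inv_mul_cancel_left]
      have hq' : q⁻¹ = x * a := by
        rw [hadef, ← mul_assoc, S.hyp.mul_self]
        rw [eq_inv_mul_iff_mul_eq.2 h3, mul_inv_rev, inv_inv]
      have e1 : (x⁻¹ * a) ^ 3 = 1 := hp' ▸ cube h1
      have e2 : (x * a) ^ 3 = 1 := by rw [← hq', inv_pow, cube h2, inv_one]
      set a' := x * a * x⁻¹ with ha'
      set a'' := x⁻¹ * a * x with ha''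
      have hx2 : x⁻¹ * x⁻¹ = x := by rw [← mul_inv_rev, S.hyp.mul_self, inv_inv]
      have c1 : a'' * a' * a = 1 := by
        rw [← e1, ha'', ha', pow_succ, pow_two]
        calc x⁻¹ * a * x * (x * a * x⁻¹) * a = x⁻¹ * a * (x * x) * a * x⁻¹ * a := by group
          _ = x⁻¹ * a * (x⁻¹ * a) * (x⁻¹ * a) := by rw [S.hyp.mul_self]; group
      have c2 : a' * a'' * a = 1 := by
        rw [← e2, ha'', ha', pow_succ, pow_two]
        calc x * a * x⁻¹ * (x⁻¹ * a * x) * a = x * a * (x⁻¹ * x⁻¹) * a * x * a := by group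
          _ = x * a * (x * a) * (x * a) := by rw [hx2]; group
      have hk : ∀ {u v : G}, Commute u v → Commute (x * u * x⁻¹) (x * v * x⁻¹) := fun huv => by
        simpa using huv.map (MulAut.conj x).toMonoidHom
      have k1 : Commute a' a'' := mul_right_cancel (c2.trans c1.symm)
      have k2 : Commute a'' a := by
        have h4 := hk k1
        rwa [show x * a'' * x⁻¹ = a by rw [ha'']; group,
          show x * a' * x⁻¹ = a'' by rw [ha', ha'']; exact S.hyp.conj_conj a] at h4
      have k3 : Commute a a' := by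
        have h4 := hk k2
        rwa [show x * a'' * x⁻¹ = a by rw [ha'']; group,
          show x * a * x⁻¹ = a' from rfl] at h4
      set B := closure ({a, a', a''} : Set G) with hB
      have hBI : Inv x B := by
        have h4 : B ≤ B.comap (MulAut.conj x).toMonoidHom := by
          rw [hB, closure_le]
          rintro w (rfl | rfl | rfl)
          · exact subset_closure (by simp [ha'])
          · show x * a' * x⁻¹ ∈ B
            rw [ha', S.hyp.conj_conj]
            exact subset_closure (by simp [ha''])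
          · show x * a'' * x⁻¹ ∈ B
            rw [show x * a'' * x⁻¹ = a by rw [ha'']; group]
            exact subset_closure (by simp)
        exact fun r hr => h4 hr
      have haB : a ∈ B := subset_closure (by simp)
      have hBc : ∀ u ∈ B, ∀ v ∈ B, Commute u v := by
        have key : ∀ u ∈ ({a, a', a''} : Set G), ∀ v ∈ ({a, a', a''} : Set G), Commute u v := by
          rintro u (rfl | rfl | rfl) v (rfl | rfl | rfl)
          exacts [Commute.refl _, k3, k2.symm, k3.symm, Commute.refl _, k1, k2, k1.symm, Commute.refl _]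
        have h4 : B ≤ centralizer ({a, a', a''} : Set G) := closure_le _ |>.2 fun y hy =>
          mem_centralizer_iff.2 fun w hw => (key w hw y hy).eq
        have h5 : B ≤ centralizer (B : Set G) := closure_le _ |>.2 fun y hy =>
          mem_centralizer_iff.2 fun w hw => (mem_centralizer_iff.1 (h4 hw) y hy).symm
        exact fun u hu v hv => (mem_centralizer_iff.1 (h5 hv) u hu)
      by_cases ha1 : a = 1
      · rw [ha1]; exact Finset.mem_insert_self _ _
      have hB3 : P3 B := by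
        intro h3B
        have : Fact (Nat.Prime 3) := ⟨Nat.prime_three⟩
        obtain ⟨⟨y, hy⟩, hyo⟩ := exists_prime_orderOf_dvd_card' 3 h3B
        rw [← Subgroup.orderOf_coe] at hyo
        have hYh := S.hyp.of_order hyo
        have hBy : ∀ u ∈ B, u ∈ zpowers y := fun u hu => hYh.cent u (hBc u hu y hy)
        have hxy : Commute x y := by
          rcases hYh.mem_three (hBy _ (hBI y hy)) with e | e | e
          · exact absurd (conj_eq_one_iff.1 e) hYh.ne_one
          · exact mul_inv_eq_iff_eq_mul.1 e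
          · exfalso
            have e2 : x * (x * y * x⁻¹) * x⁻¹ = y := by rw [e, ← conj_inv, e, inv_inv]
            have e3 : x * (x * (x * y * x⁻¹) * x⁻¹) * x⁻¹ = y := by
              rw [S.hyp.conj_conj y]; group
            rw [e2, e] at e3
            exact hYh.inv_ne e3
        have hyx : y ∈ zpowers x := S.hyp.cent y hxy.symm
        have hax : a ∈ zpowers x := zpowers_le.2 hyx (hBy a haB)
        rcases S.hyp.mem_three hax with e | e | e
        · exact ha1 e
        · rw [e, inv_mul_cancel] at hp'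
          rw [hp', isConj_one_left] at h1
          exact S.hyp.ne_one h1
        · rw [e, mul_inv_cancel, inv_eq_one] at hq'
          rw [hq', isConj_one_left] at h2
          exact S.hyp.ne_one h2
      obtain ⟨M, hM, hM'⟩ := F.cover B hB3 hBI a haB ha1
      refine Finset.mem_insert_of_mem (Finset.mem_biUnion.2 ⟨M, hM, ?_⟩)
      rcases hM' with e | e
      · exact Finset.mem_union_left _ (Finset.mem_filter.2 ⟨Finset.mem_univ _, e, ha1⟩)
      · exact Finset.mem_union_right _ (Finset.mem_filter.2 ⟨Finset.mem_univ _, e, ha1⟩)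
    have := Nat.card_le_card_of_injective (fun p => (⟨_, hmem p⟩ : U)) (fun p q e => by
      have e1 : p.1.1 = q.1.1 := mul_left_cancel (congrArg Subtype.val e)
      refine Subtype.ext (Prod.ext e1 ?_)
      have h4 := p.2.2.2.trans q.2.2.2.symm
      rw [e1] at h4
      exact mul_left_cancel h4)
    rwa [Nat.card_eq_fintype_card (α := U), Fintype.card_coe] at this
  -- the bound on the members of the family
  have hB : ∀ M ∈ R, 3 * Nat.card M * (n + 1) ≤ Nat.card G := by
    intro M hM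
    obtain ⟨hM3, hMI, -, -⟩ := F.basic M hM
    set L := M ⊔ zpowers x with hL
    have hxN : zpowers x ≤ normalizer (M : Set G) := zpowers_le.2 (hMI.mem_normalizer S.hyp)
    have hcardL : Nat.card L = 3 * Nat.card M := by
      have hxL : zpowers x ≤ normalizer (M : Set G) := hxN
      let f : M × zpowers x → L := fun p => ⟨p.1 * p.2, L.mul_mem (mem_sup_left p.1.2) (mem_sup_right p.2.2)⟩
      have hf : Function.Bijective f := by
        refine ⟨fun p q e => ?_, fun l => ?_⟩
        · have e' : (p.1 : G) * p.2 = q.1 * q.2 := congrArg Subtype.val e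
          have h1 : (q.1 : G)⁻¹ * p.1 = q.2 * (p.2 : G)⁻¹ := by
            rw [inv_mul_eq_iff_eq_mul, ← mul_assoc, ← e', mul_inv_cancel_right]
          have h2 : (q.1 : G)⁻¹ * p.1 ∈ M := M.mul_mem (M.inv_mem q.1.2) p.1.2
          have h3 : (q.1 : G)⁻¹ * p.1 ∈ zpowers x := h1 ▸ mul_mem q.2.2 (inv_mem p.2.2)
          have h4 : (q.1 : G)⁻¹ * p.1 = 1 := fixed_eq_one S.hyp hM3 h2 (by
            obtain ⟨i, hi⟩ := mem_zpowers_iff.1 h3
            rw [← hi]; exact (Commute.refl x).zpow_left i)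
          have h5 : p.1 = q.1 := Subtype.ext (inv_mul_eq_one.1 h4).symm
          rw [h5] at e'
          exact Prod.ext h5 (Subtype.ext (mul_left_cancel e'))
        · have hl := l.2
          have hl : (l : G) ∈ ((M ⊔ zpowers x : Subgroup G) : Set G) := hl
          rw [coe_mul_of_right_le_normalizer_left M (zpowers x) hxL] at hl
          obtain ⟨m, hm, y, hy, e⟩ := Set.mem_mul.1 hl
          exact ⟨(⟨m, hm⟩, ⟨y, hy⟩), Subtype.ext e⟩
      rw [← Nat.card_congr (Equiv.ofBijective f hf), Nat.card_prod, Nat.card_zpowers, S.hyp.ord, mul_comm]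
    have hout : ∀ l : L, (l : G) ∉ M → (χ : G → ℂ) l = 1 := by
      intro l hl
      have hmem : (l : G) ∈ ((M ⊔ zpowers x : Subgroup G) : Set G) := l.2
      rw [coe_mul_of_right_le_normalizer_left M (zpowers x) hxN] at hmem
      obtain ⟨m, hm, y, hy, e⟩ := Set.mem_mul.1 hmem
      rw [← e] at hl ⊢
      rcases S.hyp.mem_three hy with ey | ey | ey <;> rw [ey] at hl ⊢
      · exact absurd (by rw [mul_one]; exact hm) hl
      · obtain ⟨r, -, hr⟩ := exists_conj_eq S.hyp hM3 hMI (hMI.back S.hyp hm)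
        rw [show m * x = x * (x⁻¹ * m * x) by group, ← hr, isClassFunction_irr χ x r, hχx]
      · have hI' : Inv x⁻¹ M := fun r hr => by rw [inv_inv]; exact hMI.back S.hyp hr
        obtain ⟨r, -, hr⟩ := exists_conj_eq S.hyp.inv hM3 hI' (show x * m * x⁻¹ ∈ M from hMI m hm)
        rw [show m * x⁻¹ = x⁻¹ * (x * m * x⁻¹) by group, ← hr, isClassFunction_irr χ x⁻¹ r,
          ← classFunction_eq_of_isConj (isClassFunction_irr χ) S.isConj_inv, hχx]
    have := Fintype.ofFinite L
    have := Fintype.ofFinite M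
    set one : L → ℂ := fun _ => 1
    obtain ⟨mχ, hmχ⟩ := IsCharacter.exists_mult (IsCharacter.restrict (isCharacter_of_irr χ.2) L)
      (isIrrCharacter_one (G := L))
    have hmχpos : 0 < mχ := by
      obtain ⟨f, hf⟩ := IsCharacter.exists_mult (IsCharacter.restrict (isCharacter_of_irr χ.2) M)
        (isIrrCharacter_one (G := M))
      rw [classInner_def] at hmχ hf
      simp only [map_one, mul_one] at hmχ hf
      have hM0 : (Nat.card M : ℂ) ≠ 0 := by exact_mod_cast Nat.card_pos.ne'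
      have hMsum : ∑ m : M, (χ : G → ℂ) m = (Nat.card M : ℂ) * f := by
        rw [← hf, mul_inv_cancel_left₀ hM0]
      have hle : M ≤ L := le_sup_left
      have hsplit : ∑ l : L, (χ : G → ℂ) l = ∑ m : M, (χ : G → ℂ) m + ((2 * Nat.card M : ℕ) : ℂ) := by
        rw [← Finset.sum_filter_add_sum_filter_not Finset.univ (fun l : L => (l : G) ∈ M)]
        congr 1
        · exact (Finset.sum_bij (fun (m : M) _ => (⟨m, hle m.2⟩ : L))
            (fun m _ => Finset.mem_filter.2 ⟨Finset.mem_univ _, m.2⟩)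
            (fun a _ b _ e => Subtype.ext (congrArg (fun l : L => (l : G)) e))
            (fun l hl => ⟨⟨l, (Finset.mem_filter.1 hl).2⟩, Finset.mem_univ _, rfl⟩)
            fun m _ => rfl).symm
        · rw [Finset.sum_congr rfl fun l hl => hout l (Finset.mem_filter.1 hl).2, Finset.sum_const,
            nsmul_eq_mul, mul_one]
          congr 1
          have h1 := Finset.card_filter_add_card_filter_not (s := (Finset.univ : Finset L)) (fun l => (l : G) ∈ M)
          have h2 : (Finset.univ.filter fun l : L => (l : G) ∈ M).card = Nat.card M := by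
            rw [← Nat.card_congr (subgroupOfEquivOfLe hle).toEquiv, Nat.card_eq_fintype_card]
            exact (Fintype.card_subtype _).symm
          rw [Finset.card_univ, ← Nat.card_eq_fintype_card, hcardL] at h1
          omega
      refine Nat.pos_of_ne_zero fun e => ?_
      rw [hsplit, hMsum, hcardL, e, Nat.cast_zero] at hmχ
      rcases mul_eq_zero.1 hmχ with e' | e'
      · rw [inv_eq_zero, Nat.cast_eq_zero] at e'
        have := Nat.card_pos (α := M)
        omega
      · have h5 : Nat.card M * f + 2 * Nat.card M = 0 := by exact_mod_cast e'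
        have := Nat.card_pos (α := M)
        omega
    have hΦ : Cfsg.IsCharacter G (Cfsg.indFun L one) :=
      IsCharacter.indFun (isCharacter_of_irr (isIrrCharacter_one (G := L)))
    have h1 := classFunction_expand_apply (isClassFunction_indFun L one) 1
    rw [indFun_one, mul_one] at h1
    have hterm : ∀ ξ : Cfsg.IrrCharacter G, ∃ m : ℕ,
        Cfsg.classInner (Cfsg.indFun L one) ξ = (m : ℂ) := fun ξ => IsCharacter.exists_mult hΦ ξ.2
    choose m hm using hterm
    have h2 : L.index = ∑ ξ, m ξ * deg (ξ : G → ℂ) := by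
      have : (L.index : ℂ) = ((∑ ξ, m ξ * deg (ξ : G → ℂ) : ℕ) : ℂ) := by
        rw [h1]; push_cast
        exact Finset.sum_congr rfl fun ξ _ => by rw [hm, irr_apply_one_eq_deg]
      exact_mod_cast this
    have hmp : m (principal G) = 1 := by
      have h3 := hm (principal G)
      rw [frobenius_reciprocity L one (isClassFunction_irr _)] at h3
      have h5 : Cfsg.classInner one (fun h : L => (principal G : G → ℂ) h) = 1 :=
        classInner_irr_self ⟨_, isIrrCharacter_one (G := L)⟩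
      rw [h5] at h3
      exact_mod_cast h3.symm
    have hmc : m χ = mχ := by
      have h3 := hm χ
      rw [frobenius_reciprocity L one (isClassFunction_irr χ), ← classInner_conj_symm, hmχ,
        Complex.conj_natCast] at h3
      exact_mod_cast h3.symm
    have hne : principal G ≠ χ := fun e => hχne (by rw [← e, hp, hp])
    have h3 : 1 + n ≤ L.index := by
      rw [h2]
      refine le_trans ?_ (Finset.sum_le_sum_of_subset (Finset.subset_univ {principal G, χ}))
      rw [Finset.sum_pair hne, hmp, one_mul, hdχ, hmc]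
      have hd0 : 1 ≤ deg (principal G : G → ℂ) := deg_irr_pos _
      have := Nat.le_mul_of_pos_left n hmχpos
      omega
    have h4 := Nat.mul_le_mul_left (Nat.card L) h3
    rw [L.card_mul_index, hcardL] at h4
    linarith
  -- arithmetic
  set g := Nat.card G with hg
  set nn := n * (n + 1) with hnn
  have hcop : nn.Coprime (n ^ 2 + n + 1) := by
    rw [show n ^ 2 + n + 1 = 1 + nn by rw [hnn]; ring, Nat.coprime_add_self_right]
    exact Nat.coprime_one_right nn
  obtain ⟨m, hm⟩ : nn ∣ g :=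
    hcop.dvd_of_dvd_mul_right (Dvd.intro_left (9 * P) hPeq)
  have hnn0 : 0 < nn := by rw [hnn]; positivity
  have h3nn : ¬ 3 ∣ nn := by
    rw [hnn, Nat.prime_three.dvd_mul]; omega
  obtain ⟨m', rfl⟩ : 3 ∣ m :=
    (Nat.prime_three.dvd_mul.1 (hm ▸ three_dvd S.hyp)).resolve_left h3nn
  have hcm : c ^ 2 = m' * A ^ 2 := by
    refine Nat.eq_of_mul_eq_mul_left (show 0 < 3 * nn by omega) ?_
    calc 3 * nn * c ^ 2 = 3 * c ^ 2 * nn := by ring
      _ = g * A ^ 2 := hI
      _ = 3 * nn * (m' * A ^ 2) := by rw [hm]; ring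
  obtain ⟨j, hj⟩ : A ∣ c := (Nat.pow_dvd_pow_iff (by norm_num)).1 (Dvd.intro_left m' hcm.symm)
  have hm'j : m' = j ^ 2 := by
    refine (Nat.eq_of_mul_eq_mul_right (show 0 < A ^ 2 by positivity) ?_).symm
    rw [← hcm, hj]; ring
  subst hm'j
  have hjA : j * A = c := by rw [hj]; ring
  have hcpos : 0 < c := Nat.card_pos
  have h3c : ¬ 3 ∣ c := fun h3 => by
    have : Fact (Nat.Prime 3) := ⟨Nat.prime_three⟩
    obtain ⟨⟨y, hy⟩, hyo⟩ := exists_prime_orderOf_dvd_card' 3 h3
    rw [← Subgroup.orderOf_coe] at hyo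
    have h1 := (S.hyp.of_order hyo).cent t (mem_centralizer_singleton_iff.1 hy).symm
    have h2 := orderOf_dvd_of_mem_zpowers h1
    rw [S.inverts.orderOf_eq S.hyp, hyo] at h2
    norm_num at h2
  have hconjc : ∀ z : G, orderOf z = 2 → Nat.card (centralizer ({z} : Set G)) = c := fun z hz => by
    have hz2 : z * z = 1 := by rw [← pow_two, ← hz]; exact pow_orderOf_eq_one z
    have hconj := hclass z hz2 fun e => by rw [e, orderOf_one] at hz; omega
    have h1 := card_isConj_mul z
    have h2 : Nat.card {y : G // IsConj z y} = T :=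
      Nat.card_congr (Equiv.subtypeEquivRight fun y => ⟨hconj.trans, hconj.symm.trans⟩)
    rw [h2] at h1
    exact Nat.eq_of_mul_eq_mul_left (card_isConj_pos t) (h1.trans hTc.symm)
  have hfac : c.factorization 2 = g.factorization 2 := by
    refine le_antisymm ((Nat.factorization_le_iff_dvd hcpos.ne' Nat.card_pos.ne').2
      (card_subgroup_dvd_card _) 2) ?_
    obtain ⟨Q⟩ : Nonempty (Sylow 2 G) := inferInstance
    have h2 : 2 ∣ g := S.inverts.orderOf_eq S.hyp ▸ orderOf_dvd_natCard t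
    have : Nontrivial (Q : Subgroup G) := by
      rw [Subgroup.nontrivial_iff_ne_bot]; exact Q.ne_bot_of_dvd_card h2
    have hcn := Q.isPGroup'.center_nontrivial
    obtain ⟨k', hk'⟩ := IsPGroup.iff_card.1 (Q.isPGroup'.to_subgroup (center (Q : Subgroup G)))
    have hk0 : k' ≠ 0 := fun e => by
      have := Finite.one_lt_card_iff_nontrivial.2 hcn
      rw [hk', e] at this
      simp at this
    obtain ⟨z, hz⟩ := exists_prime_orderOf_dvd_card' 2 (G := center (Q : Subgroup G))
      (hk' ▸ dvd_pow_self 2 hk0)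
    have hzo : orderOf (((z : (Q : Subgroup G))) : G) = 2 := by
      rw [Subgroup.orderOf_coe, Subgroup.orderOf_coe, hz]
    have hle : (Q : Subgroup G) ≤ centralizer {((z : (Q : Subgroup G)) : G)} := fun a ha =>
      mem_centralizer_singleton_iff.2 (congrArg Subtype.val (mem_center_iff.1 z.2 ⟨a, ha⟩))
    have h5 := card_dvd_of_le hle
    rw [hconjc _ hzo, show Nat.card (Q : Subgroup G) = 2 ^ g.factorization 2 from Q.card_eq_multiplicity] at h5
    exact (Nat.prime_two.pow_dvd_iff_le_factorization hcpos.ne').1 h5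
  have h4 : 4 ∣ g := by
    by_contra h4
    obtain ⟨Q⟩ : Nonempty (Sylow 2 G) := inferInstance
    have h2 : 2 ∣ g := S.inverts.orderOf_eq S.hyp ▸ orderOf_dvd_natCard t
    have hk1 : g.factorization 2 = 1 := by
      refine le_antisymm ?_ (Nat.Prime.factorization_pos_of_dvd Nat.prime_two Nat.card_pos.ne' h2)
      by_contra! hk2
      exact h4 ((Nat.prime_two.pow_dvd_iff_le_factorization Nat.card_pos.ne').2 hk2)
    have hQ2 : Nat.card (Q : Subgroup G) = 2 := by
      rw [show Nat.card (Q : Subgroup G) = 2 ^ g.factorization 2 from Q.card_eq_multiplicity, hk1, pow_one]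
    have hcyc : IsCyclic Q := isCyclic_of_prime_card hQ2
    have hmin : (Nat.card G).minFac = 2 := (Nat.minFac_eq_two_iff _).2 h2
    have hcomp := hcyc.isComplement' hmin
    have h1 := hcomp.card_mul
    rw [hQ2] at h1
    rcases (inferInstance : (MonoidHom.transferSylow Q _).ker.Normal).eq_bot_or_eq_top with e | e
    · rw [e, card_bot, one_mul] at h1
      have := Nat.le_of_dvd Nat.card_pos (three_dvd S.hyp)
      omega
    · rw [e, card_top] at h1
      have := Nat.card_pos (α := G)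
      omega
  have hS3 : 3 * P = j ^ 2 * (n ^ 2 + n + 1) := by
    refine Nat.eq_of_mul_eq_mul_left (show 0 < 3 * nn by omega) ?_
    calc 3 * nn * (3 * P) = 9 * P * nn := by ring
      _ = g * (n ^ 2 + n + 1) := hPeq
      _ = 3 * nn * (j ^ 2 * (n ^ 2 + n + 1)) := by rw [hm]; ring
  refine ⟨n, j, A, by rw [hm]; ring, hn3, hn4, fun h3 => not_nine S.hyp ?_,
    fun h3 => h3c (hjA ▸ dvd_mul_of_dvd_right h3 j), dvd_mul_right 2 _, by omega, by omega,
    by rw [hjA, hfac], h4, fun M hM hM2 => ?_, fun M hM => ?_, by omega⟩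
  · have h9 : 3 * 3 ∣ 3 * j ^ 2 := mul_dvd_mul_left 3 (dvd_pow h3 (by norm_num))
    rw [show Nat.card G = nn * (3 * j ^ 2) from hm]
    exact dvd_mul_of_dvd_right h9 nn
  · obtain ⟨z, hz, hle⟩ := F.even M hM hM2
    rw [hjA, ← hconjc z hz]
    exact card_dvd_of_le hle
  · have := hB M hM
    rw [hm, show nn * (3 * j ^ 2) = 3 * (j ^ 2 * n) * (n + 1) by rw [hnn]; ring] at this
    have h6 := Nat.le_of_mul_le_mul_right this (Nat.succ_pos n)
    omega

end Cfsg.Lib.SelfCentThree
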