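import Mathlib
import Cfsg.Agent.Thompson.FixedPointFree
import Cfsg.Agent.SolvStruct.NilpotentHall

/-!
Groups with a self-centralising subgroup of order three: the fixed-point-free action on the
invariant subgroups of order prime to three.
-/

set_option linter.unusedSectionVars false

namespace Cfsg.Lib.SelfCentThree

open Subgroup

universe u

variable {G : Type u} [Group G]

/-- `x` has order three and is centralised only by its powers. -/
structure Hyp (x : G) : Prop where
  ord : orderOf x = 3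
  cent : ∀ g : G, Commute g x → g ∈ zpowers x

/-- `R` is invariant under conjugation by `x`. -/
def Inv (x : G) (R : Subgroup G) : Prop := ∀ r ∈ R, x * r * x⁻¹ ∈ R

/-- The order of `R` is prime to three. -/
def P3 (R : Subgroup G) : Prop := ¬ 3 ∣ Nat.card R

/-- `t` is an involution inverting `x`. -/
structure Inverts (t x : G) : Prop where
  sq : t * t = 1
  conj : t * x * t⁻¹ = x⁻¹

variable {x : G}

theorem Hyp.pow3 (h : Hyp x) : x ^ 3 = 1 := h.ord ▸ pow_orderOf_eq_one x

theorem Hyp.ne_one (h : Hyp x) : x ≠ 1 := fun e => by simpa [e] using h.ord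

theorem Hyp.mul_self (h : Hyp x) : x * x = x⁻¹ := by
  rw [eq_inv_iff_mul_eq_one, ← pow_two, ← pow_succ]; exact h.pow3

theorem Hyp.inv_ne (h : Hyp x) : x⁻¹ ≠ x := fun e => by
  have h2 : x ^ 2 = 1 := by rw [pow_two]; exact inv_eq_iff_mul_eq_one.1 e
  have := h.ord ▸ orderOf_dvd_of_pow_eq_one h2
  omega

theorem Hyp.mem_three (h : Hyp x) {g : G} (hg : g ∈ zpowers x) : g = 1 ∨ g = x ∨ g = x⁻¹ := by
  obtain ⟨k, rfl⟩ := mem_zpowers_iff.1 hg
  have h3 : x ^ (3 : ℤ) = 1 := by exact_mod_cast h.pow3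
  have hk : x ^ k = x ^ (k % 3) := by
    conv_lhs => rw [← Int.emod_add_mul_ediv k 3]
    rw [zpow_add, zpow_mul, h3, one_zpow, mul_one]
  rw [hk]
  rcases (by omega : k % 3 = 0 ∨ k % 3 = 1 ∨ k % 3 = 2) with e | e | e <;> rw [e]
  · simp
  · simp
  · refine Or.inr (Or.inr ?_)
    rw [← h.mul_self]; exact zpow_two x

theorem Hyp.conj_conj (h : Hyp x) (a : G) : x * (x * a * x⁻¹) * x⁻¹ = x⁻¹ * a * x := by
  rw [show x * (x * a * x⁻¹) * x⁻¹ = (x * x) * a * (x * x)⁻¹ by group, h.mul_self, inv_inv]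

theorem Inv.back (h : Hyp x) {R : Subgroup G} (hI : Inv x R) {r : G} (hr : r ∈ R) :
    x⁻¹ * r * x ∈ R := by
  rw [← h.conj_conj]; exact hI _ (hI r hr)

theorem Inv.mem_normalizer (h : Hyp x) {R : Subgroup G} (hI : Inv x R) :
    x ∈ normalizer (R : Set G) := by
  rw [mem_set_normalizer_iff]
  exact fun r => ⟨fun hr => hI r hr, fun hr => by
    have := hI.back h hr
    rwa [show x⁻¹ * (x * r * x⁻¹) * x = r by group] at this⟩

theorem inv_of_mem_normalizer {R : Subgroup G} (hx : x ∈ normalizer (R : Set G)) : Inv x R :=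
  fun r hr => ((mem_set_normalizer_iff.1 hx) r).1 hr

theorem Inv.inf {R S : Subgroup G} (hR : Inv x R) (hS : Inv x S) : Inv x (R ⊓ S) :=
  fun r hr => ⟨hR r hr.1, hS r hr.2⟩

theorem inv_of_normal {R : Subgroup G} [R.Normal] : Inv x R :=
  fun r hr => Normal.conj_mem inferInstance r hr x

theorem Inv.sup {R S : Subgroup G} (hR : Inv x R) (hS : Inv x S) : Inv x (R ⊔ S) := by
  have h1 : R ⊔ S ≤ (R ⊔ S).comap (MulAut.conj x).toMonoidHom :=
    sup_le (fun r hr => mem_sup_left (hR r hr)) (fun r hr => mem_sup_right (hS r hr))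
  exact fun r hr => h1 hr

theorem P3.anti [Finite G] {R S : Subgroup G} (hle : R ≤ S) (hS : P3 S) : P3 R :=
  fun h => hS (h.trans (card_dvd_of_le hle))

theorem P3.bot : P3 (⊥ : Subgroup G) := by simp [P3]

theorem P3.pos {R : Subgroup G} (hR : P3 R) : 0 < Nat.card R :=
  Nat.pos_of_ne_zero fun e => hR (by rw [e]; exact dvd_zero 3)

theorem card_map_dvd {H : Type*} [Group H] (f : G →* H) (R : Subgroup G) :
    Nat.card (R.map f) ∣ Nat.card R :=
  card_dvd_of_surjective (f.subgroupMap R) (f.subgroupMap_surjective R)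

theorem P3.map {H : Type*} [Group H] {R : Subgroup G} (hR : P3 R) (f : G →* H) : P3 (R.map f) :=
  fun h => hR (h.trans (card_map_dvd f R))

theorem Inv.map {H : Type*} [Group H] {R : Subgroup G} (hR : Inv x R) (f : G →* H) :
    Inv (f x) (R.map f) := by
  rintro - ⟨r, hr, rfl⟩
  exact ⟨x * r * x⁻¹, hR r hr, by simp⟩

theorem Inv.comap {H : Type*} [Group H] (f : G →* H) {R : Subgroup H} (hR : Inv (f x) R) :
    Inv x (R.comap f) := fun r hr => by
  rw [mem_comap, map_mul, map_mul, map_inv]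
  exact hR _ hr

theorem card_sup_normal (R K : Subgroup G) [K.Normal] :
    Nat.card ↥(R ⊔ K) = Nat.card K * K.relIndex R := by
  rw [← relIndex_sup_right R K, ← relIndex_bot_left, ← relIndex_bot_left,
    relIndex_mul_relIndex ⊥ K (R ⊔ K) bot_le le_sup_right]

theorem P3.sup_normal [Finite G] {R K : Subgroup G} [K.Normal] (hR : P3 R) (hK : P3 K) :
    P3 (R ⊔ K) := by
  intro h
  rw [card_sup_normal] at h
  rcases Nat.prime_three.dvd_mul.1 h with e | e
  · exact hK e
  · exact hR (e.trans (relIndex_dvd_card _ _))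

/-- Two subgroups of `W` with trivial intersection that commute elementwise. -/
theorem card_mul_card_dvd {A B W : Subgroup G} (hA : A ≤ W) (hB : B ≤ W)
    (hc : ∀ a ∈ A, ∀ b ∈ B, Commute a b) (hd : A ⊓ B = ⊥) :
    Nat.card A * Nat.card B ∣ Nat.card W := by
  have hcomm : ∀ (a : A) (b : B), Commute (Subgroup.inclusion hA a) (Subgroup.inclusion hB b) :=
    fun a b => Subtype.ext (hc a a.2 b b.2).eq
  rw [← Nat.card_prod]
  refine card_dvd_of_injective ((Subgroup.inclusion hA).noncommCoprod (Subgroup.inclusion hB) hcomm) ?_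
  rw [injective_iff_map_eq_one]
  intro p hp
  have hp' : (p.1 : G) * p.2 = 1 := by
    have := congrArg Subtype.val hp
    simpa using this
  have h1 : (p.1 : G) ∈ A ⊓ B := ⟨p.1.2, by rw [eq_inv_of_mul_eq_one_left hp']; exact B.inv_mem p.2.2⟩
  rw [hd, mem_bot] at h1
  rw [h1, one_mul] at hp'
  exact Prod.ext (Subtype.ext h1) (Subtype.ext hp')

section Fpf

variable [Finite G] {R : Subgroup G}

omit [Finite G] in
theorem not_mem_of_p3 (h : Hyp x) (hP : P3 R) : x ∉ R := fun hx => hP <| by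
  have h1 := Subgroup.orderOf_dvd_natCard R hx
  rwa [h.ord] at h1

theorem fixed_eq_one (h : Hyp x) (hP : P3 R) {r : G} (hr : r ∈ R) (hc : Commute r x) : r = 1 := by
  rcases h.mem_three (h.cent r hc) with e | e | e
  · exact e
  · exact absurd (e ▸ hr) (not_mem_of_p3 h hP)
  · refine absurd ?_ (not_mem_of_p3 h hP)
    subst e
    exact R.inv_mem_iff.1 hr

/-- Conjugation by `x` on an invariant subgroup. -/
def conjHom (hI : Inv x R) : R →* R where
  toFun r := ⟨x * r * x⁻¹, hI r r.2⟩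
  map_one' := Subtype.ext (by simp)
  map_mul' a b := Subtype.ext (by simp)

theorem conjHom_fpf (h : Hyp x) (hP : P3 R) (hI : Inv x R) :
    MonoidHom.FixedPointFree (conjHom hI) := by
  intro r hr
  refine Subtype.ext (fixed_eq_one h hP r.2 ?_)
  have : x * (r : G) * x⁻¹ = r := congrArg Subtype.val hr
  exact (mul_inv_eq_iff_eq_mul.1 this).symm

omit [Finite G] in
theorem conjHom_cube (h : Hyp x) (hI : Inv x R) : (conjHom hI)^[3] = _root_.id := by
  funext r
  refine Subtype.ext ?_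
  show x * (x * (x * (r : G) * x⁻¹) * x⁻¹) * x⁻¹ = r
  rw [h.conj_conj]; group

theorem isNilpotent (h : Hyp x) (hP : P3 R) (hI : Inv x R) : Group.IsNilpotent R :=
  Cfsg.Lib.Thompson.isNilpotent_of_fpf (conjHom hI) (conjHom_fpf h hP hI) Nat.prime_three
    (conjHom_cube h hI)

/-- The product of the three conjugates of an element is trivial. -/
theorem prod_three (h : Hyp x) (hP : P3 R) (hI : Inv x R) {a : G} (ha : a ∈ R) :
    a * (x * a * x⁻¹) * (x⁻¹ * a * x) = 1 := by
  have h1 := congrArg Subtype.val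
    ((conjHom_fpf h hP hI).prod_pow_eq_one (conjHom_cube h hI) ⟨a, ha⟩)
  have h2 : a * ((x * a * x⁻¹) * (x * (x * a * x⁻¹) * x⁻¹)) = 1 := by
    simpa [List.range_succ, conjHom, mul_assoc] using h1
  rw [← h.conj_conj, mul_assoc]
  exact h2

theorem comm_self (h : Hyp x) (hP : P3 R) (hI : Inv x R) {a : G} (ha : a ∈ R) :
    Commute a (x * a * x⁻¹) := by
  set a' := x * a * x⁻¹ with hdef
  set a'' := x⁻¹ * a * x
  have h1 : a * a' * a'' = 1 := prod_three h hP hI ha
  have h2 : a⁻¹ * (x * a⁻¹ * x⁻¹) * (x⁻¹ * a⁻¹ * x) = 1 := prod_three h hP hI (R.inv_mem ha)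
  have h2' : a⁻¹ * a'⁻¹ * a''⁻¹ = 1 := by
    rw [← h2]; simp only [hdef, a'']; group
  have h3 : a'' = (a * a')⁻¹ := eq_inv_of_mul_eq_one_right h1
  rw [h3, inv_inv] at h2'
  show a * a' = a' * a
  calc a * a' = (a' * a) * (a⁻¹ * a'⁻¹ * (a * a')) := by group
    _ = a' * a := by rw [h2', mul_one]

/-- Commuting elements of an invariant subgroup commute with each other's conjugates. -/
theorem comm_conj (h : Hyp x) (hP : P3 R) (hI : Inv x R) {a b : G} (ha : a ∈ R) (hb : b ∈ R)
    (hab : Commute a b) : Commute a (x * b * x⁻¹) ∧ Commute a (x⁻¹ * b * x) := by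
  set a' := x * a * x⁻¹ with ha'
  set b' := x * b * x⁻¹ with hb'
  have h1 : a * a' * (x⁻¹ * a * x) = 1 := prod_three h hP hI ha
  have h2 : b * b' * (x⁻¹ * b * x) = 1 := prod_three h hP hI hb
  have h3 := prod_three h hP hI (R.mul_mem ha hb)
  have hab' : a' * b' = b' * a' := by
    calc a' * b' = x * (a * b) * x⁻¹ := by rw [ha', hb']; group
      _ = x * (b * a) * x⁻¹ := by rw [hab.eq]
      _ = b' * a' := by rw [ha', hb']; group
  rw [show x * (a * b) * x⁻¹ = a' * b' by rw [ha', hb']; group,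
    show x⁻¹ * (a * b) * x = (x⁻¹ * a * x) * (x⁻¹ * b * x) by group,
    eq_inv_of_mul_eq_one_right h1, eq_inv_of_mul_eq_one_right h2] at h3
  have key : Commute a (b * b') := by
    rw [hab'] at h3
    have h4 : a * (b * b') * a⁻¹ * (b * b')⁻¹ = 1 := by rw [← h3]; group
    exact mul_inv_eq_iff_eq_mul.1 (mul_inv_eq_one.1 h4)
  have k1 : Commute a b' := by
    have := hab.inv_right.mul_right key
    rwa [show b⁻¹ * (b * b') = b' by group] at this
  refine ⟨k1, ?_⟩
  rw [eq_inv_of_mul_eq_one_right h2]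
  exact key.inv_right

theorem card_mod_three (h : Hyp x) (hP : P3 R) (hI : Inv x R) : Nat.card R % 3 = 1 := by
  classical
  have := Fintype.ofFinite R
  have : Fact (Nat.Prime 3) := ⟨Nat.prime_three⟩
  let f : Function.End R := fun r => conjHom hI r
  have hf : f ^ 3 ^ 1 = 1 := by
    funext r
    show conjHom hI (conjHom hI (conjHom hI r)) = r
    exact congrFun (conjHom_cube h hI) r
  have h1 := Equiv.Perm.card_fixedPoints_modEq (p := 3) (n := 1) hf
  have h2 : ∀ r : R, r ∈ Function.fixedPoints f ↔ r = 1 := fun r =>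
    ⟨fun hr => conjHom_fpf h hP hI r hr, fun hr => hr ▸ map_one (conjHom hI)⟩
  have h3 : Fintype.card (Function.fixedPoints f) = 1 :=
    Fintype.card_eq_one_iff.2 ⟨⟨1, (h2 1).2 rfl⟩, fun r => Subtype.ext ((h2 r.1).1 r.2)⟩
  rw [Nat.card_eq_fintype_card]
  rw [h3] at h1
  exact h1

theorem exists_conj_eq (h : Hyp x) (hP : P3 R) (hI : Inv x R) {u : G} (hu : u ∈ R) :
    ∃ r ∈ R, r * x * r⁻¹ = x * u := by
  let f : R → R := fun r => ⟨x⁻¹ * r * x * (r : G)⁻¹, R.mul_mem (hI.back h r.2) (R.inv_mem r.2)⟩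
  have hf : Function.Injective f := by
    intro r s hrs
    have h1 : x⁻¹ * (r : G) * x * (r : G)⁻¹ = x⁻¹ * s * x * (s : G)⁻¹ := congrArg Subtype.val hrs
    have h2 : Commute ((s : G)⁻¹ * r) x := by
      show (s : G)⁻¹ * r * x = x * ((s : G)⁻¹ * r)
      calc (s : G)⁻¹ * r * x = (s : G)⁻¹ * x * (x⁻¹ * r * x * (r : G)⁻¹) * r := by group
        _ = (s : G)⁻¹ * x * (x⁻¹ * s * x * (s : G)⁻¹) * r := by rw [h1]
        _ = x * ((s : G)⁻¹ * r) := by group
    have h3 := fixed_eq_one h hP (R.mul_mem (R.inv_mem s.2) r.2) h2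
    exact Subtype.ext (inv_mul_eq_one.1 h3).symm
  obtain ⟨r, hr⟩ := Finite.surjective_of_injective hf ⟨u, hu⟩
  refine ⟨r, r.2, ?_⟩
  have h4 : x⁻¹ * (r : G) * x * (r : G)⁻¹ = u := congrArg Subtype.val hr
  rw [← h4]; group

/-- The conjugates of an abelian subgroup of an invariant subgroup generate an abelian subgroup. -/
theorem exists_abelian_inv (h : Hyp x) (hP : P3 R) (hI : Inv x R) {A : Subgroup G} (hA : A ≤ R)
    (hc : ∀ a ∈ A, ∀ b ∈ A, Commute a b) :
    ∃ B : Subgroup G, A ≤ B ∧ B ≤ R ∧ Inv x B ∧ ∀ a ∈ B, ∀ b ∈ B, Commute a b := by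
  let S : Set G := {y | ∃ a ∈ A, y = a ∨ y = x * a * x⁻¹ ∨ y = x⁻¹ * a * x}
  refine ⟨closure S, fun a ha => subset_closure ⟨a, ha, Or.inl rfl⟩, ?_, ?_, ?_⟩
  · rw [closure_le]
    rintro y ⟨a, ha, rfl | rfl | rfl⟩
    · exact hA ha
    · exact hI a (hA ha)
    · exact hI.back h (hA ha)
  · have h1 : closure S ≤ (closure S).comap (MulAut.conj x).toMonoidHom := by
      rw [closure_le]
      rintro y ⟨a, ha, hy | rfl | rfl⟩
      · subst hy
        show _ ∈ closure S
        exact Subgroup.subset_closure ⟨_, ha, Or.inr (Or.inl rfl)⟩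
      · refine subset_closure ⟨a, ha, Or.inr (Or.inr ?_)⟩
        show x * (x * a * x⁻¹) * x⁻¹ = x⁻¹ * a * x
        exact h.conj_conj a
      · refine subset_closure ⟨a, ha, Or.inl ?_⟩
        show x * (x⁻¹ * a * x) * x⁻¹ = a
        group
    exact fun r hr => h1 hr
  · have key : ∀ y ∈ S, ∀ z ∈ S, Commute y z := by
      have k0 : ∀ {a b : G}, Commute a b → ∀ c : G, Commute (c * a * c⁻¹) (c * b * c⁻¹) := fun hab c => by
        have := hab.map (MulAut.conj c).toMonoidHom
        simpa using this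
      rintro y ⟨a, ha, hy⟩ z ⟨b, hb, hz⟩
      have e : ∀ {a b : G}, a ∈ A → b ∈ A → Commute a b ∧ Commute a (x * b * x⁻¹) ∧
          Commute a (x⁻¹ * b * x) := fun ha hb =>
        ⟨hc _ ha _ hb, comm_conj h hP hI (hA ha) (hA hb) (hc _ ha _ hb)⟩
      rcases hy with rfl | rfl | rfl <;> rcases hz with rfl | rfl | rfl
      · exact (e ha hb).1
      · exact (e ha hb).2.1
      · exact (e ha hb).2.2
      · exact (e hb ha).2.1.symm
      · exact k0 (e ha hb).1 x
      · have := k0 (e ha hb).2.1 x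
        rwa [h.conj_conj] at this
      · exact (e hb ha).2.2.symm
      · have := (k0 (e hb ha).2.1 x).symm
        rwa [h.conj_conj] at this
      · simpa using k0 (e ha hb).1 x⁻¹
    intro a ha b hb
    have h1 : closure S ≤ centralizer S := closure_le _ |>.2 fun y hy =>
      mem_centralizer_iff.2 fun z hz => (key z hz y hy).eq
    have h2 : closure S ≤ centralizer (closure S : Set G) := closure_le _ |>.2 fun y hy =>
      mem_centralizer_iff.2 fun z hz => (mem_centralizer_iff.1 (h1 hz) y hy).symm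
    exact (mem_centralizer_iff.1 (h2 hb) a ha)

theorem four_dvd (h : Hyp x) (hP : P3 R) (hI : Inv x R) (h2 : 2 ∣ Nat.card R) :
    4 ∣ Nat.card R := by
  have : Fact (Nat.Prime 2) := ⟨Nat.prime_two⟩
  obtain ⟨z, hz⟩ := exists_prime_orderOf_dvd_card' 2 h2
  have hzo : orderOf (z : G) = 2 := by rw [Subgroup.orderOf_coe]; exact hz
  have hzo' : orderOf (x * (z : G) * x⁻¹) = 2 := by
    rw [← hzo]; exact orderOf_injective (MulAut.conj x).toMonoidHom (MulAut.conj x).injective _
  have hd : zpowers (z : G) ⊓ zpowers (x * (z : G) * x⁻¹) = ⊥ := by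
    rw [eq_bot_iff]
    rintro w ⟨hw1, hw2⟩
    rw [mem_bot]
    by_contra hw
    have m : ∀ {v w : G}, orderOf v = 2 → w ∈ zpowers v → w ≠ 1 → w = v := by
      intro v w hv hw hne
      obtain ⟨k, rfl⟩ := mem_zpowers_iff.1 hw
      rw [← zpow_mod_orderOf, hv] at hne ⊢
      rcases (by omega : k % ((2 : ℕ) : ℤ) = 0 ∨ k % ((2 : ℕ) : ℤ) = 1) with e | e <;> rw [e] at hne ⊢
      · simp at hne
      · simp
    have e : x * (z : G) * x⁻¹ = z := (m hzo' hw2 hw).symm.trans (m hzo hw1 hw)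
    have h1 : (z : G) = 1 := fixed_eq_one h hP z.2 (mul_inv_eq_iff_eq_mul.1 e).symm
    rw [h1, orderOf_one] at hzo
    omega
  have h4 := card_mul_card_dvd (W := R) ((zpowers_le).2 z.2) ((zpowers_le).2 (hI z z.2))
    (fun a ha b hb => by
      obtain ⟨i, rfl⟩ := mem_zpowers_iff.1 ha
      obtain ⟨j, rfl⟩ := mem_zpowers_iff.1 hb
      exact ((comm_self h hP hI z.2).zpow_right j).zpow_left i) hd
  rwa [Nat.card_zpowers, Nat.card_zpowers, hzo, hzo'] at h4

end Fpf

end Cfsg.Lib.SelfCentThree
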