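import Cfsg.Agent.SelfCentThree.TwoCount

/-!
Groups with a self-centralising subgroup of order three: the family of maximal invariant subgroups.
-/

set_option linter.unusedSectionVars false

namespace Cfsg.Lib.SelfCentThree

open Subgroup
open scoped Pointwise

universe u

variable {G : Type u} [Group G] [Finite G] {x t : G}

theorem prod_dvd_of_pairwise {α : Type*} (s : Finset α) (f : α → ℕ) (n : ℕ) (hd : ∀ a ∈ s, f a ∣ n)
    (hc : ∀ a ∈ s, ∀ b ∈ s, a ≠ b → (f a).Coprime (f b)) : ∏ a ∈ s, f a ∣ n := by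
  classical
  induction s using Finset.induction_on with
  | empty => simp
  | insert a s ha ih =>
    rw [Finset.prod_insert ha]
    refine Nat.Coprime.mul_dvd_of_dvd_of_dvd (Nat.Coprime.prod_right fun b hb => ?_)
      (hd a (Finset.mem_insert_self _ _))
      (ih (fun b hb => hd b (Finset.mem_insert_of_mem hb))
        fun b hb c hc' hne => hc b (Finset.mem_insert_of_mem hb) c (Finset.mem_insert_of_mem hc') hne)
    exact hc a (Finset.mem_insert_self _ _) b (Finset.mem_insert_of_mem hb) fun e => ha (e ▸ hb)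

/-- What the counting needs to know about the maximal invariant subgroups. -/
structure Family (x t : G) (R : Finset (Subgroup G)) : Prop where
  basic : ∀ M ∈ R, P3 M ∧ Inv x M ∧ 1 < Nat.card M ∧ Nat.card M % 3 = 1
  cover : ∀ (A : Subgroup G), P3 A → Inv x A → ∀ a ∈ A, a ≠ 1 → ∃ M ∈ R, a ∈ M ∨ t * a * t⁻¹ ∈ M
  even : ∀ M ∈ R, 2 ∣ Nat.card M → ∃ z, orderOf z = 2 ∧ M ≤ centralizer {z}
  count : (R.filter fun M : Subgroup G => 2 ∣ Nat.card M).card ≤ 3
  count_one : 2 ^ (Nat.card G).factorization 2 ≤ 4 →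
    (R.filter fun M : Subgroup G => 2 ∣ Nat.card M).card ≤ 1
  prod_le : 3 * ∏ M ∈ R, Nat.card M ≤ 8 * Nat.card G
  odd_dvd : 3 * 2 ^ (Nat.card G).factorization 2 *
    ∏ M ∈ R, Nat.card M / 2 ^ (Nat.card M).factorization 2 ∣ Nat.card G
  four : 2 ^ (Nat.card G).factorization 2 = 8 → ∀ M ∈ R, 2 ∣ Nat.card M →
    2 ^ (Nat.card M).factorization 2 = 4

variable (S : Setting x t)
include S

theorem exists_dist : ∃ R : Finset (Subgroup G), (∀ M ∈ R, Max x M) ∧
    (∀ M ∈ R, ∀ M' ∈ R, M' = cj t M → M' = M) ∧ ∀ M, Max x M → M ∈ R ∨ cj t M ∈ R := by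
  classical
  have := Fintype.ofFinite (Subgroup G)
  have hcj : ∀ M, Max x M → Max x (cj t M) := fun M hM => by
    have hI : Inv x (cj t M) := by
      have h1 : Inv x⁻¹ M := fun r hr => by rw [inv_inv]; exact hM.inv.back S.hyp hr
      have h2 := h1.cj t
      rwa [S.inverts.conj_inv] at h2
    refine ⟨fun e => hM.ne_bot ?_, hM.p3.cj t, hI, fun R h3 hRI hle => ?_⟩
    · rw [← card_eq_one, ← card_cj t, e, card_bot]
    · have hRI' : Inv x (cj t R) := by
        have h1 : Inv x⁻¹ R := fun r hr => by rw [inv_inv]; exact hRI.back S.hyp hr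
        have h2 := h1.cj t
        rwa [S.inverts.conj_inv] at h2
      have h4 : M ≤ cj t R := by
        have := cj_mono t hle
        rwa [cj_cj, S.inverts.sq, cj_one] at this
      rw [← hM.max _ (h3.cj t) hRI' h4, cj_cj, S.inverts.sq, cj_one]
  let f := Fintype.equivFin (Subgroup G)
  refine ⟨Finset.univ.filter fun M => Max x M ∧ f M ≤ f (cj t M), fun M hM => (Finset.mem_filter.1 hM).2.1,
    fun M hM M' hM' e => ?_, fun M hM => ?_⟩
  · have h1 := (Finset.mem_filter.1 hM).2.2
    have h2 := (Finset.mem_filter.1 hM').2.2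
    rw [e, cj_cj, S.inverts.sq, cj_one] at h2
    rw [e]
    exact f.injective (le_antisymm h2 h1)
  · rcases le_total (f M) (f (cj t M)) with h | h
    · exact Or.inl (Finset.mem_filter.2 ⟨Finset.mem_univ _, hM, h⟩)
    · refine Or.inr (Finset.mem_filter.2 ⟨Finset.mem_univ _, hcj M hM, ?_⟩)
      rwa [cj_cj, S.inverts.sq, cj_one]

/-- A Sylow subgroup attached to a two-part that is not small. -/
theorem Max.big_sylow {M : Subgroup G} (hM : Max x M) (h2 : 2 ∣ Nat.card M) (hs : ¬ Small x t M) :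
    ∃ T : Sylow 2 G, pc 2 M ≤ (T : Subgroup G) ∧ JA (T : Subgroup G) = JA (pc 2 M) ∧
      (T : Subgroup G) ≤ normalizer (pc 2 M : Set G) ∧
      (∀ a ∈ (T : Subgroup G), ∀ b ∈ (T : Subgroup G), a ∉ pc 2 M → b ∉ pc 2 M → a * b ∈ pc 2 M) ∧
      (t ∈ normalizer (M : Set G) → normalizer (JA (pc 2 M) : Set G) ≤ normalizer (M : Set G)) ∧
      (t ∉ normalizer (M : Set G) → (T : Subgroup G) = pc 2 M) := by
  have : Fact (Nat.Prime 2) := ⟨Nat.prime_two⟩
  by_cases ht : t ∈ normalizer (M : Set G)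
  · have h16 : 16 ≤ Nat.card (pc 2 M) := (hM.two_card S h2).2.2.2.resolve_left fun e => hs ⟨hM, ht, e⟩
    obtain ⟨hJ, hN, hc⟩ := hM.big_data S h2 ht h16
    obtain ⟨-, -, hmem, htQ, -⟩ := hM.t_sup S h2 ht
    refine ⟨Sylow.ofCard (pc 2 M ⊔ zpowers t) hc, le_sup_left, hJ,
      sup_le le_normalizer (zpowers_le.2 htQ), fun a ha b hb haQ hbQ => ?_, fun _ => hN,
      fun h => absurd ht h⟩
    have h1 := ((mem_set_normalizer_iff.1 htQ) _).1 ((hmem a ha).resolve_left haQ)
    have h3 := (pc 2 M).mul_mem h1 ((hmem b hb).resolve_left hbQ)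
    rwa [show t * (t * a) * t⁻¹ * (t * b) = (t * t) * a * b by group, S.inverts.sq, one_mul] at h3
  · exact ⟨Sylow.ofCard (pc 2 M) (hM.two_card_not_mem S h2 ht), le_rfl, rfl, le_normalizer,
      fun a ha b _ haQ _ => absurd ha haQ, fun h => absurd h ht, fun _ => rfl⟩

theorem exists_family : ∃ R : Finset (Subgroup G), Family x t R := by
  classical
  have : Fact (Nat.Prime 2) := ⟨Nat.prime_two⟩
  obtain ⟨R, hmax, hdist, hcov⟩ := exists_dist S
  refine ⟨R, ?_⟩
  have same : ∀ M ∈ R, ∀ M' ∈ R, (M' = M ∨ M' = cj t M) → M' = M :=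
    fun M hM M' hM' h => h.elim id (hdist M hM M' hM')
  have hone : ∀ M ∈ R, 1 < Nat.card M := fun M hM =>
    lt_of_le_of_ne Nat.card_pos fun e => (hmax M hM).ne_bot (card_eq_one.1 e.symm)
  set E := R.filter fun M : Subgroup G => 2 ∣ Nat.card M with hE
  set T2 := 2 ^ (Nat.card G).factorization 2 with hT2
  -- two members that are not small coincide
  have hbig : ∀ M ∈ E, ∀ M' ∈ E, ¬ Small x t M → ¬ Small x t M' → M' = M := by
    intro M hM M' hM' hs hs'
    obtain ⟨hMR, h2⟩ := Finset.mem_filter.1 hM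
    obtain ⟨hMR', h2'⟩ := Finset.mem_filter.1 hM'
    obtain ⟨T, -, hJ, -, -, hN, hTeq⟩ := (hmax M hMR).big_sylow S h2 hs
    obtain ⟨T', -, hJ', -, -, hN', hTeq'⟩ := (hmax M' hMR').big_sylow S h2' hs'
    -- a member with `t` in its normaliser absorbs the other one
    have absorb : ∀ {A B : Subgroup G} (TA TB : Sylow 2 G), Max x A → Max x B →
        JA (TA : Subgroup G) = JA (pc 2 A) → JA (TB : Subgroup G) = JA (pc 2 B) →
        normalizer (JA (pc 2 B) : Set G) ≤ normalizer (B : Set G) → B = A ∨ B = cj t A := by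
      intro A B TA TB hA hB hJA hJB hNB
      obtain ⟨g, hg⟩ := MulAction.exists_smul_eq G TA TB
      have hgJ : cj g (JA (pc 2 A)) = JA (pc 2 B) := by
        rw [← hJA, ← hJB, cj_JA, ← hg]; rfl
      have h1 : ∀ a ∈ normalizer (A : Set G), g * a * g⁻¹ ∈ normalizer (B : Set G) := fun a ha => by
        refine hNB ?_
        rw [← hgJ]
        exact mem_normalizer_cj (normalizer_le_JA _ (normalizer_le_pc 2 A ha))
      refine hA.eq_or_conj S hB (h1 x (hA.x_mem S)) fun a ha => ?_
      have := h1 _ (le_normalizer (mem_cj.1 ha))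
      rwa [show g * (g⁻¹ * a * g) * g⁻¹ = a by group] at this
    by_cases ht : t ∈ normalizer (M : Set G)
    · exact (same M' hMR' M hMR (absorb T' T (hmax M' hMR') (hmax M hMR) hJ' hJ (hN ht))).symm
    by_cases ht' : t ∈ normalizer (M' : Set G)
    · exact same M hMR M' hMR' (absorb T T' (hmax M hMR) (hmax M' hMR') hJ hJ' (hN' ht'))
    obtain ⟨g, hg⟩ := MulAction.exists_smul_eq G T T'
    refine same M hMR M' hMR' ((hmax M hMR).share S (hmax M' hMR') h2' (g := g) ?_)
    rw [← hTeq ht, ← hTeq' ht', ← hg]; rfl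
  -- small and not small do not mix
  have hmix : ∀ M ∈ E, ∀ M' ∈ E, Small x t M → ¬ Small x t M' → False := by
    intro M hM M' hM' hs hs'
    obtain ⟨hMR', h2'⟩ := Finset.mem_filter.1 hM'
    obtain ⟨-, hQI, hQ3, hcard⟩ := (hmax M' hMR').two_card S h2'
    obtain ⟨T', hQT, -, hTn, hidx, -, -⟩ := (hmax M' hMR').big_sylow S h2' hs'
    rcases hcard with e | e
    · have ht : t ∉ normalizer (M' : Set G) := fun ht => hs' ⟨hmax M' hMR', ht, e⟩
      have h4 := (hmax M' hMR').two_card_not_mem S h2' ht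
      rw [e] at h4
      have h8 : 2 ^ 3 ∣ Nat.card G := hs.eight S
      have h3 := (Nat.prime_two.pow_dvd_iff_le_factorization Nat.card_pos.ne').1 h8
      have := Nat.pow_le_pow_right (show 2 > 0 by norm_num) h3
      omega
    · exact hs.not_big S hQI hQ3 e T' hQT hidx hTn
  have hshape : (∀ M ∈ E, Small x t M) ∨ E.card ≤ 1 := by
    by_cases h : ∀ M ∈ E, Small x t M
    · exact Or.inl h
    push Not at h
    obtain ⟨M, hM, hs⟩ := h
    refine Or.inr (Finset.card_le_one.2 fun A hA B hB => ?_)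
    have hA' : ¬ Small x t A := fun h => hmix A hA M hM h hs
    have hB' : ¬ Small x t B := fun h => hmix B hB M hM h hs
    exact (hbig B hB A hA hB' hA')
  have hcount : E.card ≤ 3 := by
    rcases hshape with h | h
    · exact Small.card_le S (R := E) h fun M hM M' hM' e =>
        hdist M (Finset.mem_filter.1 hM).1 M' (Finset.mem_filter.1 hM').1 e
    · omega
  have height : ∀ M ∈ E, Small x t M → 8 ≤ T2 := fun M _ hs => by
    have h8 : 2 ^ 3 ∣ Nat.card G := hs.eight S
    exact le_trans (by norm_num) (Nat.pow_le_pow_right (show 2 > 0 by norm_num)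
      ((Nat.prime_two.pow_dvd_iff_le_factorization Nat.card_pos.ne').1 h8))
  have htwo : ∀ M ∈ R, Nat.card (pc 2 M) = 2 ^ (Nat.card M).factorization 2 := fun M hM => by
    have := (hmax M hM).isNilpotent S
    exact pc_data.2
  have hodd : 3 * T2 * ∏ M ∈ R, Nat.card M / 2 ^ (Nat.card M).factorization 2 ∣ Nat.card G := by
    have h3 : ∀ M ∈ R, (Nat.card M / 2 ^ (Nat.card M).factorization 2).Coprime 3 := fun M hM =>
      (Nat.Coprime.symm (Nat.prime_three.coprime_iff_not_dvd.2 fun h =>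
        (hmax M hM).p3 (h.trans (Nat.ordCompl_dvd _ _))))
    have h2 : ∀ M ∈ R, (Nat.card M / 2 ^ (Nat.card M).factorization 2).Coprime 2 := fun M _ =>
      Nat.Coprime.symm (Nat.prime_two.coprime_iff_not_dvd.2
        (Nat.not_dvd_ordCompl Nat.prime_two Nat.card_pos.ne'))
    have hp : ∏ M ∈ R, Nat.card M / 2 ^ (Nat.card M).factorization 2 ∣ Nat.card G := by
      refine prod_dvd_of_pairwise R _ _ (fun M _ =>
        (Nat.ordCompl_dvd _ _).trans (card_subgroup_dvd_card M)) fun M hM M' hM' hne => ?_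
      refine Nat.coprime_of_dvd fun p hp h1 h1' => hne ?_
      have : Fact p.Prime := ⟨hp⟩
      have hp2 : p ≠ 2 := fun e => Nat.not_dvd_ordCompl Nat.prime_two
        (Nat.card_pos (α := M)).ne' (e ▸ h1)
      exact (same M hM M' hM' ((hmax M hM).share_odd S (hmax M' hM') hp2
        (h1.trans (Nat.ordCompl_dvd _ _)) (h1'.trans (Nat.ordCompl_dvd _ _)))).symm
    refine Nat.Coprime.mul_dvd_of_dvd_of_dvd ?_ ?_ hp
    · exact (Nat.Coprime.mul_left (Nat.Coprime.prod_right fun M hM => (h3 M hM).symm)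
        (Nat.Coprime.pow_left _ (Nat.Coprime.prod_right fun M hM => (h2 M hM).symm)))
    · exact Nat.Coprime.mul_dvd_of_dvd_of_dvd (Nat.Coprime.pow_right _ (by norm_num))
        (three_dvd S.hyp) (Nat.ordProj_dvd _ _)
  have hprod2 : ∏ M ∈ R, 2 ^ (Nat.card M).factorization 2 ≤ 8 * T2 := by
    rw [← Finset.prod_filter_mul_prod_filter_not R (fun M : Subgroup G => 2 ∣ Nat.card M),
      Finset.prod_eq_one (s := R.filter fun M : Subgroup G => ¬ 2 ∣ Nat.card M) (fun M hM => by
        rw [Nat.factorization_eq_zero_of_not_dvd (Finset.mem_filter.1 hM).2, pow_zero]), mul_one]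
    have hpos : 1 ≤ T2 := Nat.one_le_pow _ _ (by norm_num)
    rcases hshape with h | h
    · rcases E.eq_empty_or_nonempty with e | ⟨M₀, hM₀⟩
      · rw [← hE, e, Finset.prod_empty]; omega
      · have h8 := height M₀ hM₀ (h M₀ hM₀)
        have h64 : ∏ M ∈ E, 2 ^ (Nat.card M).factorization 2 ≤ 4 ^ E.card :=
          Finset.prod_le_pow_card _ _ _ fun M hM => by
            rw [← htwo M (Finset.mem_filter.1 hM).1, (h M hM).card]
        have h65 : 4 ^ E.card ≤ 4 ^ 3 := Nat.pow_le_pow_right (by norm_num) hcount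
        calc _ ≤ 4 ^ E.card := h64
          _ ≤ 4 ^ 3 := h65
          _ ≤ 8 * T2 := by omega
    · refine le_trans (Finset.prod_le_pow_card _ _ T2 fun M hM => ?_) ?_
      · exact Nat.pow_le_pow_right (by norm_num)
          ((Nat.factorization_le_iff_dvd Nat.card_pos.ne' Nat.card_pos.ne').2 (card_subgroup_dvd_card M) 2)
      · exact (Nat.pow_le_pow_right hpos h).trans (by rw [pow_one]; omega)
  refine ⟨fun M hM => ⟨(hmax M hM).p3, (hmax M hM).inv, hone M hM,
    card_mod_three S.hyp (hmax M hM).p3 (hmax M hM).inv⟩, ?_, ?_, hcount, ?_, ?_, hodd, ?_⟩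
  · intro A hA hAI a ha ha1
    obtain ⟨M, hM, hAM⟩ := exists_max (fun e => ha1 (by rw [e] at ha; exact mem_bot.1 ha)) hA hAI
    rcases hcov M hM with h | h
    · exact ⟨M, h, Or.inl (hAM ha)⟩
    · exact ⟨_, h, Or.inr (conj_mem_cj t (hAM ha))⟩
  · intro M hM h2
    have := (hmax M hM).isNilpotent S
    set Q := pc 2 M with hQ
    have hQp := ((hmax M hM).two_card S h2).1
    have hne := (hmax M hM).pc_ne_bot S h2
    obtain ⟨Z, -⟩ : ∃ Z : Subgroup M, Z = center M := ⟨_, rfl⟩
    -- a central involution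
    have hcard2 : 2 ∣ Nat.card (center M) := by
      obtain ⟨P⟩ : Nonempty (Sylow 2 M) := inferInstance
      have htfae := (Group.isNilpotent_of_finite_tfae (G := M)).out 0 3
      have hPn : (P : Subgroup M).Normal := htfae.1 inferInstance 2 ‹_› P
      have : Nontrivial (P : Subgroup M) := by
        rw [Subgroup.nontrivial_iff_ne_bot]
        exact P.ne_bot_of_dvd_card h2
      have hcn := P.isPGroup'.center_nontrivial
      obtain ⟨k, hk⟩ := IsPGroup.iff_card.1 (P.isPGroup'.to_subgroup (center (P : Subgroup M)))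
      have hk0 : k ≠ 0 := fun e => by
        have := Finite.one_lt_card_iff_nontrivial.2 hcn
        rw [hk, e] at this
        simp at this
      obtain ⟨z, hz⟩ := exists_prime_orderOf_dvd_card' 2 (G := center (P : Subgroup M))
        (hk ▸ dvd_pow_self 2 hk0)
      have hzo : orderOf ((z : (P : Subgroup M)) : M) = 2 := by
        rw [Subgroup.orderOf_coe, Subgroup.orderOf_coe, hz]
      refine hzo ▸ Subgroup.orderOf_dvd_natCard (center M) (mem_center_iff.2 fun w => ?_)
      suffices hH : centralizer ({((z : (P : Subgroup M)) : M)} : Set M) = ⊤ from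
        (mem_centralizer_singleton_iff.1 (show w ∈ centralizer _ by rw [hH]; exact mem_top w))
      refine eq_top_of_card_eq _ (Nat.dvd_antisymm (card_subgroup_dvd_card _) ?_)
      refine Nat.dvd_iff_prime_pow_dvd_dvd _ _ |>.2 fun p k hp hpk => ?_
      have : Fact p.Prime := ⟨hp⟩
      by_cases hpr : p = 2
      · subst hpr
        refine (P.pow_dvd_card_of_pow_dvd_card hpk).trans (card_dvd_of_le fun a ha => ?_)
        exact mem_centralizer_singleton_iff.2
          (congrArg Subtype.val (mem_center_iff.1 z.2 ⟨a, ha⟩))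
      · obtain ⟨W⟩ : Nonempty (Sylow p M) := inferInstance
        refine (W.pow_dvd_card_of_pow_dvd_card hpk).trans (card_dvd_of_le fun a ha => ?_)
        obtain ⟨b, hb⟩ := (IsPGroup.iff_orderOf.1 W.isPGroup') ⟨a, ha⟩
        exact mem_centralizer_singleton_iff.2 (Cfsg.Lib.SolvStruct.commute_of_coprime_of_nilpotent hpr
          ⟨b, by rw [← hb]; exact Subgroup.orderOf_coe ⟨a, ha⟩⟩ ⟨1, by rw [hzo, pow_one]⟩).eq
    obtain ⟨z, hz⟩ := exists_prime_orderOf_dvd_card' 2 hcard2
    refine ⟨((z : M) : G), by rw [Subgroup.orderOf_coe, Subgroup.orderOf_coe, hz], fun m hm => ?_⟩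
    exact mem_centralizer_singleton_iff.2 (congrArg Subtype.val (mem_center_iff.1 z.2 ⟨m, hm⟩))
  · intro h4
    rcases hshape with h | h
    · refine Finset.card_le_one.2 fun A hA B hB => ?_
      have := height A hA (h A hA)
      omega
    · exact h
  · have h1 : ∏ M ∈ R, Nat.card M = (∏ M ∈ R, 2 ^ (Nat.card M).factorization 2) *
        ∏ M ∈ R, Nat.card M / 2 ^ (Nat.card M).factorization 2 := by
      rw [← Finset.prod_mul_distrib]
      exact Finset.prod_congr rfl fun M _ => (Nat.ordProj_mul_ordCompl_eq_self _ _).symm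
    rw [h1]
    calc 3 * (_ * _) ≤ 3 * ((8 * T2) * ∏ M ∈ R, Nat.card M / 2 ^ (Nat.card M).factorization 2) :=
          Nat.mul_le_mul_left _ (Nat.mul_le_mul_right _ hprod2)
      _ = 8 * (3 * T2 * ∏ M ∈ R, Nat.card M / 2 ^ (Nat.card M).factorization 2) := by ring
      _ ≤ 8 * Nat.card G := Nat.mul_le_mul_left _ (Nat.le_of_dvd Nat.card_pos hodd)
  · intro h8 M hM h2
    obtain ⟨-, -, -, e | e⟩ := (hmax M hM).two_card S h2
    · rw [← htwo M hM, e]
    · exfalso
      have h3 := Nat.le_of_dvd (Nat.two_pow_pos _) (Nat.pow_dvd_pow 2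
        ((Nat.factorization_le_iff_dvd Nat.card_pos.ne' Nat.card_pos.ne').2 (card_subgroup_dvd_card M) 2))
      rw [← htwo M hM] at h3
      omega

end Cfsg.Lib.SelfCentThree
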