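import Cfsg.Agent.SelfCentThree.Sylow

/-!
Groups with a self-centralising subgroup of order three: the conclusion, and the reduction to simple
groups.
-/

set_option linter.unusedSectionVars false

namespace Cfsg.Lib.SelfCentThree

open Subgroup

universe u v

/-- The normal subgroup `K` has a simple quotient. -/
def MaxNormal {G : Type u} [Group G] (K : Subgroup G) : Prop :=
  ∀ N : Subgroup G, N.Normal → K ≤ N → N = K ∨ N = ⊤

/-- The structure of a group with a self-centralising subgroup of order three. -/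
def Concl (G : Type u) [Group G] : Prop :=
  ∃ K : Subgroup G, K.Normal ∧ P3 K ∧ (K.index = 3 ∨ K.index = 6 ∨
    ((K.index = 60 ∨ K.index = 168) ∧ IsPGroup 2 K ∧ (K.index = 168 → K = ⊥) ∧ MaxNormal K))

variable {G : Type u} [Group G] [Finite G] {x t : G}

theorem isSimpleGroup_quot {K : Subgroup G} [K.Normal] (h1 : 1 < K.index) (hm : MaxNormal K) :
    IsSimpleGroup (G ⧸ K) := by
  have : Nontrivial (G ⧸ K) := Finite.one_lt_card_iff_nontrivial.1 (by rwa [← index_eq_card])
  refine ⟨fun N hN => ?_⟩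
  have hle : K ≤ N.comap (QuotientGroup.mk' K) := fun a ha => by
    rw [mem_comap, show QuotientGroup.mk' K a = 1 from (QuotientGroup.eq_one_iff a).2 ha]
    exact N.one_mem
  have hs := QuotientGroup.mk'_surjective K
  rcases hm _ (hN.comap _) hle with e | e
  · refine Or.inl ?_
    rw [← map_comap_eq_self_of_surjective hs N, e, QuotientGroup.map_mk'_self]
  · refine Or.inr ?_
    rw [← map_comap_eq_self_of_surjective hs N, e, map_top_of_surjective _ hs]

theorem Hyp.quot (h : Hyp x) {K : Subgroup G} [K.Normal] (hK : P3 K) :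
    Hyp (QuotientGroup.mk' K x) :=
  h.map _ (QuotientGroup.mk'_surjective K) (by rwa [QuotientGroup.ker_mk'])

/-- Invariant subgroups lie in a normal subgroup of index three or six. -/
theorem le_of_index (h : Hyp x) {K : Subgroup G} [K.Normal] (hK : P3 K)
    (hi : K.index = 3 ∨ K.index = 6) {R : Subgroup G} (hP : P3 R) (hI : Inv x R) : R ≤ K := by
  have h1 := card_six_inv (h.quot hK) (by rwa [← index_eq_card]) (hP.map _) (hI.map _)
  rwa [Subgroup.map_eq_bot_iff, QuotientGroup.ker_mk'] at h1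

/-- A nontrivial invariant subgroup of order prime to `r` in a simple quotient excludes `r`. -/
theorem not_dvd_kernel (h : Hyp x) {K : Subgroup G} [K.Normal] (hK : P3 K) (hm : MaxNormal K)
    {V : Subgroup (G ⧸ K)} (hVI : Inv (QuotientGroup.mk' K x) V) {q m : ℕ} [hq : Fact q.Prime]
    (hVc : Nat.card V = q ^ (m + 1)) (hq3 : q ≠ 3) {r : ℕ} [hr : Fact r.Prime] (hrq : r ≠ q) :
    ¬ r ∣ Nat.card K := by
  intro hdvd
  set f := QuotientGroup.mk' K with hf
  have hker : f.ker = K := QuotientGroup.ker_mk' K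
  have hKP : P3 f.ker := by rwa [hker]
  have hV3 : P3 V := fun h3 => hq3 ((Nat.prime_dvd_prime_iff_eq Nat.prime_three hq.out).1
    (Nat.prime_three.dvd_of_dvd_pow (hVc ▸ h3))).symm
  have hR3 : P3 (V.comap f) := P3.comap f (QuotientGroup.mk'_surjective K) hKP hV3
  have hRI : Inv x (V.comap f) := hVI.comap f
  have hKR : K ≤ V.comap f := fun a ha => by
    rw [mem_comap, MonoidHom.mem_ker.1 (hker.symm ▸ ha : a ∈ f.ker)]; exact V.one_mem
  have := isNilpotent h hR3 hRI
  have := isNilpotent h hK inv_of_normal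
  -- a `q`-element outside `K`
  obtain ⟨u, huR, huK, i, hui⟩ : ∃ u ∈ V.comap f, u ∉ K ∧ ∃ i, orderOf u = q ^ i := by
    have hne : V ≠ ⊥ := fun e => by
      rw [e, card_bot] at hVc
      exact hq.out.one_lt.ne' ((Nat.pow_eq_one.1 hVc.symm).resolve_right (by omega))
    obtain ⟨v, hv, hv1⟩ := V.bot_or_exists_ne_one.resolve_left hne
    obtain ⟨u, rfl⟩ := QuotientGroup.mk'_surjective K v
    have hn0 : orderOf u ≠ 0 := (orderOf_pos u).ne'
    obtain ⟨e, a, ha, hea⟩ := Nat.exists_eq_pow_mul_and_not_dvd hn0 q hq.out.one_lt.ne'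
    refine ⟨u ^ a, (V.comap f).pow_mem hv a, fun hmem => ?_, e, ?_⟩
    · have h1 : f u ^ a = 1 := by
        rw [← map_pow]
        exact MonoidHom.mem_ker.1 (hker.symm ▸ hmem : u ^ a ∈ f.ker)
      have h2 : f u ^ (q ^ (m + 1)) = 1 := by
        have := orderOf_dvd_iff_pow_eq_one.1 (Subgroup.orderOf_dvd_natCard V hv)
        rwa [hVc] at this
      have h3 : (Nat.gcd a (q ^ (m + 1))) = 1 :=
        ((hq.out.coprime_iff_not_dvd.2 ha).pow_left _).symm
      have h4 := pow_gcd_eq_one.2 ⟨h1, h2⟩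
      rw [h3, pow_one] at h4
      exact hv1 h4
    · rw [orderOf_pow, hea, Nat.gcd_mul_left_left, Nat.mul_div_cancel _ (Nat.pos_of_ne_zero
        fun e => ha (by rw [e]; exact dvd_zero q))]
  -- a central element of a Sylow subgroup of `K`
  obtain ⟨P⟩ : Nonempty (Sylow r K) := inferInstance
  have htfae := (Group.isNilpotent_of_finite_tfae (G := K)).out 0 3
  have hPn : (P : Subgroup K).Normal := htfae.1 inferInstance r hr P
  have := P.characteristic_of_normal hPn
  set P' := (P : Subgroup K).map K.subtype with hP'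
  have hP'n : P'.Normal := inferInstance
  have : Nontrivial (P : Subgroup K) := by
    rw [Subgroup.nontrivial_iff_ne_bot]
    exact P.ne_bot_of_dvd_card hdvd
  have := P.isPGroup'.center_nontrivial
  obtain ⟨⟨⟨z, hzP⟩, hzc⟩, hz1⟩ := exists_ne (1 : center (P : Subgroup K))
  have hzP' : (z : G) ∈ P' := ⟨z, hzP, rfl⟩
  have hz1' : (z : G) ≠ 1 := fun e => hz1 (Subtype.ext (Subtype.ext (Subtype.ext e)))
  have hzK : ∀ k : K, Commute z k := by
    suffices hH : centralizer ({z} : Set K) = ⊤ from fun k =>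
      ((mem_centralizer_iff.1 (show k ∈ centralizer ({z} : Set K) by rw [hH]; exact mem_top k)) z rfl)
    refine eq_top_of_card_eq _ (Nat.dvd_antisymm (card_subgroup_dvd_card _) ?_)
    refine Nat.dvd_iff_prime_pow_dvd_dvd _ _ |>.2 fun p k hp hpk => ?_
    have : Fact p.Prime := ⟨hp⟩
    by_cases hpr : p = r
    · subst hpr
      refine (P.pow_dvd_card_of_pow_dvd_card hpk).trans (card_dvd_of_le fun w hw => ?_)
      exact mem_centralizer_iff.2 fun w' hw' => by
        subst hw'
        exact (congrArg Subtype.val (mem_center_iff.1 hzc ⟨w, hw⟩)).symm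
    · obtain ⟨S⟩ : Nonempty (Sylow p K) := inferInstance
      refine (S.pow_dvd_card_of_pow_dvd_card hpk).trans (card_dvd_of_le fun w hw => ?_)
      refine mem_centralizer_iff.2 fun w' hw' => ?_
      subst hw'
      obtain ⟨a, ha⟩ := (IsPGroup.iff_orderOf.1 P.isPGroup') ⟨w', hzP⟩
      obtain ⟨b, hb⟩ := (IsPGroup.iff_orderOf.1 S.isPGroup') ⟨w, hw⟩
      exact (Cfsg.Lib.SolvStruct.commute_of_coprime_of_nilpotent (Ne.symm hpr)
        ⟨a, by rw [← ha]; exact Subgroup.orderOf_coe ⟨w', hzP⟩⟩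
        ⟨b, by rw [← hb]; exact Subgroup.orderOf_coe ⟨w, hw⟩⟩).eq
  -- the centraliser of `P'` covers `G / K`
  have huC : u ∈ centralizer (P' : Set G) := by
    rw [mem_centralizer_iff]
    rintro w ⟨p', hp', rfl⟩
    obtain ⟨a, ha⟩ := (IsPGroup.iff_orderOf.1 P.isPGroup') ⟨p', hp'⟩
    rw [Subgroup.orderOf_mk] at ha
    have := Cfsg.Lib.SolvStruct.commute_of_coprime_of_nilpotent (K := V.comap f) hrq
      (x := Subgroup.inclusion hKR p') (y := ⟨u, huR⟩)
      ⟨a, by rw [orderOf_injective _ (Subgroup.inclusion_injective hKR), ha]⟩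
      ⟨i, by rw [Subgroup.orderOf_mk, hui]⟩
    exact congrArg Subtype.val this.eq
  have hC : (centralizer (P' : Set G) ⊔ K) = ⊤ :=
    (hm _ inferInstance le_sup_right).resolve_left fun e => huK (e ▸ mem_sup_left huC)
  obtain ⟨c, hc, k, hk, hck⟩ := mem_sup_of_normal_right.1 (show x ∈ centralizer (P' : Set G) ⊔ K by rw [hC]; exact mem_top x)
  have h1 : Commute (z : G) x := by
    rw [← hck]
    exact (show Commute (z : G) c from (mem_centralizer_iff.1 hc) z hzP').mul_right
      (congrArg Subtype.val (hzK ⟨k, hk⟩).eq)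
  exact hz1' (fixed_eq_one h hK z.2 h1)

theorem kernel_structure (h : Hyp x) {K : Subgroup G} [K.Normal] (hK : P3 K) (hm : MaxNormal K)
    (hi : K.index = 60 ∨ K.index = 168) : IsPGroup 2 K ∧ (K.index = 168 → K = ⊥) := by
  have := isSimpleGroup_quot (by omega) hm
  have hy := h.quot hK
  have : Fact (Nat.Prime 2) := ⟨Nat.prime_two⟩
  have key : ∀ r : ℕ, r.Prime → r ∣ Nat.card K → r = 2 ∧ K.index ≠ 168 := by
    intro r hr hd
    have : Fact r.Prime := ⟨hr⟩
    obtain ⟨V, hV, hVI⟩ : ∃ V : Subgroup (G ⧸ K), Nat.card V = 4 ∧ Inv (QuotientGroup.mk' K x) V := by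
      rcases hi with e | e
      · exact exists_four_sixty hy (by rw [← index_eq_card, e])
      · exact exists_four_oneSixtyEight hy (by rw [← index_eq_card, e])
    have h2 : r = 2 := by
      by_contra h2
      exact not_dvd_kernel h hK hm hVI (q := 2) (m := 1) (by rw [hV]; norm_num) (by norm_num) h2 hd
    refine ⟨h2, fun e => ?_⟩
    obtain ⟨W, hW, hWI⟩ := exists_seven_oneSixtyEight hy (by rw [← index_eq_card, e])
    have : Fact (Nat.Prime 7) := ⟨by norm_num⟩
    exact not_dvd_kernel h hK hm hWI (q := 7) (m := 0) (by rw [hW]; norm_num) (by norm_num) (by omega) hd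
  refine ⟨IsPGroup.of_card (n := (Nat.card K).primeFactorsList.length)
    (Nat.eq_prime_pow_of_unique_prime_dvd Nat.card_pos.ne' fun {d} hd hdd => (key d hd hdd).1),
    fun e => card_eq_one.1 ?_⟩
  by_contra hne
  obtain ⟨r, hr, hrd⟩ := Nat.exists_prime_and_dvd hne
  exact (key r hr hrd).2 e

theorem Concl.inflate (h : Hyp x) {H : Type v} [Group H] [Finite H] (f : G →* H)
    (hs : Function.Surjective f) (hP : P3 f.ker) (hc : Concl H) : Concl G := by
  obtain ⟨K', hK'n, hK', hi⟩ := hc
  have hn : (K'.comap f).Normal := hK'n.comap f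
  have hK : P3 (K'.comap f) := P3.comap f hs hP hK'
  have hidx := index_comap_of_surjective K' hs
  refine ⟨_, hn, hK, ?_⟩
  rcases hi with e | e | ⟨e, -, -, hm⟩
  · exact Or.inl (hidx.trans e)
  · exact Or.inr (Or.inl (hidx.trans e))
  · have hm' : MaxNormal (K'.comap f) := fun N hN hle => by
      have hker : f.ker ≤ N := le_trans (fun a ha => by
        rw [mem_comap, MonoidHom.mem_ker.1 ha]; exact K'.one_mem) hle
      have h2 : K' ≤ N.map f := by
        rw [← map_comap_eq_self_of_surjective hs K']; exact map_mono hle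
      rw [← comap_map_eq_self hker]
      rcases hm _ (hN.map f hs) h2 with e' | e'
      · exact Or.inl (by rw [e'])
      · exact Or.inr (by rw [e', comap_top])
    rw [← hidx] at e
    exact Or.inr (Or.inr ⟨e, (kernel_structure h hK hm' e).1, (kernel_structure h hK hm' e).2, hm'⟩)

theorem reduce (h : Hyp x)
    (hq : ∀ (N : Subgroup G) (_ : N.Normal), N ≠ ⊥ → P3 N → Concl (G ⧸ N))
    (hsimple : IsSimpleGroup G → (∃ t, Inverts t x) → Concl G) : Concl G := by
  by_cases hN : ∃ N : Subgroup G, N.Normal ∧ N ≠ ⊥ ∧ P3 N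
  · obtain ⟨N, hNn, hN1, hN3⟩ := hN
    exact Concl.inflate h (QuotientGroup.mk' N) (QuotientGroup.mk'_surjective N)
      (by rwa [QuotientGroup.ker_mk']) (hq N hNn hN1 hN3)
  by_cases ht : ∃ t, Inverts t x
  swap
  · obtain ⟨K, hKn, hK, hi⟩ := exists_normal_index_three h ht
    exact ⟨K, hKn, hK, Or.inl hi⟩
  push Not at hN
  by_cases hK : ∀ K : Subgroup G, K.Normal → K = ⊥ ∨ K = ⊤
  · have : Nontrivial G := ⟨⟨x, 1, h.ne_one⟩⟩
    exact hsimple ⟨hK⟩ ht
  push Not at hK
  obtain ⟨K, hKn, hK1, hK2⟩ := hK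
  obtain ⟨t, ht⟩ := ht
  have : Fact (Nat.Prime 3) := ⟨Nat.prime_three⟩
  have hxK : x ∈ K := by
    have hd : 3 ∣ Nat.card K := by
      by_contra h3
      exact hN K hKn hK1 h3
    obtain ⟨⟨y, hy⟩, hyo⟩ := exists_prime_orderOf_dvd_card' 3 hd
    rw [← Subgroup.orderOf_coe] at hyo
    obtain ⟨g, hg⟩ := exists_conj h hyo
    have hm : g * x * g⁻¹ ∈ K := by
      rcases hg with e | e <;> rw [e]
      · exact hy
      · exact K.inv_mem hy
    simpa [mul_assoc] using hKn.conj_mem _ hm g⁻¹
  have hcov : ∀ g, g ∈ K ∨ t * g ∈ K := by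
    intro g
    have hm := hKn.conj_mem x hxK g
    obtain ⟨k, hk⟩ := exists_conj (h.sub K hxK) (y := ⟨_, hm⟩)
      (by rw [Subgroup.orderOf_mk]; exact (h.conj g).ord)
    have h1 : ((k : G)⁻¹ * g) * x * ((k : G)⁻¹ * g)⁻¹ ∈ zpowers x := by
      rw [show ((k : G)⁻¹ * g) * x * ((k : G)⁻¹ * g)⁻¹ = (k : G)⁻¹ * (g * x * g⁻¹) * k by group]
      rcases hk with e | e <;> have e' := congrArg Subtype.val e <;>
        simp only [Subgroup.coe_mul, Subgroup.coe_inv] at e'
      · rw [← e']; simp [mul_assoc, mem_zpowers]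
      · rw [← inv_inv (g * x * g⁻¹), ← e']; simp [mul_assoc, mem_zpowers]
    rcases ht.normalizer_cases h h1 with e | e
    · refine Or.inl ?_
      have := K.mul_mem k.2 (zpowers_le.2 hxK e)
      rwa [mul_inv_cancel_left] at this
    · refine Or.inr ?_
      have h2 := K.mul_mem (hKn.conj_mem _ k.2 t) (zpowers_le.2 hxK e)
      rwa [show t * (k : G) * t⁻¹ * (t * ((k : G)⁻¹ * g)) = t * g by group] at h2
  have htK : t ∉ K := fun htK => hK2 <| top_le_iff.1 fun g _ => by
    rcases hcov g with e | e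
    · exact e
    · exact (K.mul_mem_cancel_left htK).1 e
  obtain ⟨D, hDn, hD, hDi⟩ := exists_normal_index_three (h.sub K hxK) (by
    rintro ⟨⟨s, hs⟩, hsq, hconj⟩
    have hconj' : s * x * s⁻¹ = x⁻¹ := congrArg Subtype.val hconj
    have hc : Commute (t * s) x := by
      refine mul_inv_eq_iff_eq_mul.1 ?_
      calc t * s * x * (t * s)⁻¹ = t * (s * x * s⁻¹) * t⁻¹ := by group
        _ = x := by rw [hconj', ht.conj_inv]
    exact htK ((K.mul_mem_cancel_right hs).1 (zpowers_le.2 hxK (h.cent _ hc))))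
  have hD' : (D.map K.subtype).Normal := by
    refine ⟨?_⟩
    rintro - ⟨d, hd, rfl⟩ g
    refine ⟨⟨g * d * g⁻¹, hKn.conj_mem _ d.2 g⟩, ?_, rfl⟩
    rw [SetLike.mem_coe, ← QuotientGroup.eq_one_iff, ← orderOf_eq_one_iff]
    have h1 : (⟨g * d * g⁻¹, hKn.conj_mem _ d.2 g⟩ : K) ^ Nat.card D = 1 := by
      refine Subtype.ext ?_
      rw [SubgroupClass.coe_pow, conj_pow]
      have := congrArg Subtype.val (orderOf_dvd_iff_pow_eq_one.1 (Subgroup.orderOf_dvd_natCard D hd))
      simp only [SubgroupClass.coe_pow, OneMemClass.coe_one] at this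
      simp [this]
    have h2 : orderOf ((⟨g * d * g⁻¹, hKn.conj_mem _ d.2 g⟩ : K) : K ⧸ D) ∣ Nat.card D :=
      orderOf_dvd_of_pow_eq_one (by rw [← QuotientGroup.mk_pow, h1, QuotientGroup.mk_one])
    have h3 := orderOf_dvd_natCard ((⟨g * d * g⁻¹, hKn.conj_mem _ d.2 g⟩ : K) : K ⧸ D)
    rw [← index_eq_card, hDi] at h3
    rcases (Nat.dvd_prime Nat.prime_three).1 h3 with e | e
    · exact e
    · exact absurd (e ▸ h2) hD
  have hDb : D = ⊥ := by
    refine (Subgroup.map_eq_bot_iff_of_injective _ K.subtype_injective).1 ?_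
    by_contra hne
    exact hN _ hD' hne (hD.map _)
  have hKc : Nat.card K = 3 := by rw [← D.card_mul_index, hDb, card_bot, one_mul, ← hDb, hDi]
  have hG : Nat.card G ≤ 2 * Nat.card K := by
    classical
    let f : G → Bool × K := fun g => if hg : g ∈ K then (false, ⟨g, hg⟩)
      else (true, ⟨t * g, (hcov g).resolve_left hg⟩)
    have hf : Function.Injective f := by
      intro a b hab
      simp only [f] at hab
      split_ifs at hab with ha hb hb
      · simpa using hab
      · simp at hab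
      · simp at hab
      · simpa using hab
    simpa [Nat.card_prod] using Nat.card_le_card_of_injective f hf
  have h6 : Nat.card G = 6 := by
    have h1 := card_subgroup_dvd_card K
    have h2 : Nat.card K ≠ Nat.card G := fun e => hK2 (eq_top_of_card_eq K e)
    rw [hKc] at h1 h2 hG
    have hp : 0 < Nat.card G := Nat.card_pos
    omega
  exact ⟨⊥, inferInstance, P3.bot, Or.inr (Or.inl (by rw [index_bot, h6]))⟩

end Cfsg.Lib.SelfCentThree
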