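import Cfsg.Agent.SelfCentThree.Induct

/-!
Groups with a self-centralising subgroup of order three: the maximal invariant subgroups of order
prime to three in a simple group.
-/

set_option linter.unusedSectionVars false

namespace Cfsg.Lib.SelfCentThree

open Subgroup
open scoped Pointwise

universe u

variable {G : Type u} [Group G] {x t : G}

/-- The conjugate of a subgroup. -/
abbrev cj (g : G) (M : Subgroup G) : Subgroup G := M.map (MulAut.conj g).toMonoidHom

theorem mem_cj {g a : G} {M : Subgroup G} : a ∈ cj g M ↔ g⁻¹ * a * g ∈ M := conj_mem_map_iff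

theorem conj_mem_cj (g : G) {a : G} {M : Subgroup G} (ha : a ∈ M) : g * a * g⁻¹ ∈ cj g M :=
  mem_cj.2 (by rwa [show g⁻¹ * (g * a * g⁻¹) * g = a by group])

theorem cj_cj (g h : G) (M : Subgroup G) : cj g (cj h M) = cj (g * h) M := by
  ext a
  simp only [mem_cj]
  rw [show (g * h)⁻¹ * a * (g * h) = h⁻¹ * (g⁻¹ * a * g) * h by group]

theorem cj_one (M : Subgroup G) : cj 1 M = M := by
  ext a; simp [mem_cj]

theorem cj_inv_cj (g : G) (M : Subgroup G) : cj g⁻¹ (cj g M) = M := by
  rw [cj_cj, inv_mul_cancel, cj_one]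

theorem card_cj (g : G) (M : Subgroup G) : Nat.card (cj g M) = Nat.card M :=
  Nat.card_congr (M.equivMapOfInjective _ (MulAut.conj g).injective).toEquiv.symm

theorem cj_mono (g : G) {M N : Subgroup G} (h : M ≤ N) : cj g M ≤ cj g N := map_mono h

theorem cj_eq_self {g : G} {M : Subgroup G} (hg : g ∈ normalizer (M : Set G)) : cj g M = M := by
  ext a
  rw [mem_cj]
  have := (mem_set_normalizer_iff.1 (inv_mem hg)) a
  simpa using this.symm

theorem mem_normalizer_cj {g a : G} {M : Subgroup G} (ha : a ∈ normalizer (M : Set G)) :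
    g * a * g⁻¹ ∈ normalizer (cj g M : Set G) := by
  rw [mem_set_normalizer_iff]
  intro b
  rw [SetLike.mem_coe, SetLike.mem_coe, mem_cj, mem_cj,
    show g⁻¹ * (g * a * g⁻¹ * b * (g * a * g⁻¹)⁻¹) * g = a * (g⁻¹ * b * g) * a⁻¹ by group]
  exact (mem_set_normalizer_iff.1 ha) (g⁻¹ * b * g)

theorem P3.cj {M : Subgroup G} (h : P3 M) (g : G) : P3 (cj g M) := by
  rwa [P3, card_cj]

theorem Inv.cj {M : Subgroup G} (hI : Inv x M) (g : G) : Inv (g * x * g⁻¹) (cj g M) := hI.map _

theorem P3.subgroupOf {M L : Subgroup G} (h : P3 M) (hle : M ≤ L) : P3 (M.subgroupOf L) := by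
  rwa [P3, Nat.card_congr (subgroupOfEquivOfLe hle).toEquiv]

theorem Inv.subgroupOf {M : Subgroup G} (hI : Inv x M) (L : Subgroup G) (hx : x ∈ L) :
    Inv (⟨x, hx⟩ : L) (M.subgroupOf L) := fun r hr => hI r hr

/-- The subgroup generated by the `p`-elements of `M`. -/
def pc (p : ℕ) (M : Subgroup G) : Subgroup G := closure {a | a ∈ M ∧ ∃ k, orderOf a = p ^ k}

theorem pc_le (p : ℕ) (M : Subgroup G) : pc p M ≤ M := (closure_le M).2 fun _ h => h.1

theorem pc_mem {p : ℕ} {M : Subgroup G} {a : G} (ha : a ∈ M) (hk : ∃ k, orderOf a = p ^ k) :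
    a ∈ pc p M := subset_closure ⟨ha, hk⟩

theorem cj_pc_le (g : G) (p : ℕ) (M : Subgroup G) : cj g (pc p M) ≤ pc p (cj g M) := by
  rw [cj, map_le_iff_le_comap, pc, closure_le]
  exact fun a ha => pc_mem (conj_mem_cj g ha.1)
    (by
      obtain ⟨-, k, hk⟩ := ha
      exact ⟨k, hk ▸ orderOf_injective (MulAut.conj g).toMonoidHom (MulAut.conj g).injective a⟩)

theorem normalizer_le_pc (p : ℕ) (M : Subgroup G) :
    normalizer (M : Set G) ≤ normalizer (pc p M : Set G) := by
  have key : ∀ g ∈ normalizer (M : Set G), cj g (pc p M) ≤ pc p M := fun g hg => by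
    have := cj_pc_le g p M
    rwa [cj_eq_self hg] at this
  intro g hg
  rw [mem_set_normalizer_iff]
  intro b
  refine ⟨fun hb => key g hg (conj_mem_cj g hb), fun hb => ?_⟩
  have := key g⁻¹ (inv_mem hg) (conj_mem_cj g⁻¹ hb)
  rwa [show g⁻¹ * (g * b * g⁻¹) * g⁻¹⁻¹ = b by group] at this

theorem pc_eq_self {p : ℕ} {M : Subgroup G} (hM : IsPGroup p M) [Fact p.Prime] : pc p M = M :=
  le_antisymm (pc_le p M) fun a ha => pc_mem ha <| by
    obtain ⟨k, hk⟩ := (IsPGroup.iff_orderOf.1 hM) ⟨a, ha⟩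
    exact ⟨k, by rwa [Subgroup.orderOf_mk] at hk⟩

variable [Finite G]

theorem pc_data {p : ℕ} [Fact p.Prime] {M : Subgroup G} [Group.IsNilpotent M] :
    IsPGroup p (pc p M) ∧ Nat.card (pc p M) = p ^ (Nat.card M).factorization p := by
  obtain ⟨P⟩ : Nonempty (Sylow p M) := inferInstance
  have htfae := (Group.isNilpotent_of_finite_tfae (G := M)).out 0 3
  have hPn : (P : Subgroup M).Normal := htfae.1 inferInstance p ‹_› P
  have := P.unique_of_normal hPn
  have h1 : pc p M = (P : Subgroup M).map M.subtype := by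
    refine le_antisymm ?_ ?_
    · rw [pc, closure_le]
      rintro a ⟨ha, k, hk⟩
      obtain ⟨Q, hQ⟩ := (IsPGroup.of_card (p := p) (n := k) (show Nat.card (zpowers (⟨a, ha⟩ : M)) = p ^ k
        by rw [Nat.card_zpowers, Subgroup.orderOf_mk, hk])).exists_le_sylow
      rw [Subsingleton.elim Q P] at hQ
      exact ⟨_, hQ (mem_zpowers _), rfl⟩
    · rintro - ⟨a, ha, rfl⟩
      refine pc_mem a.2 ?_
      obtain ⟨k, hk⟩ := (IsPGroup.iff_orderOf.1 P.isPGroup') ⟨a, ha⟩
      exact ⟨k, by rw [Subgroup.orderOf_mk] at hk; rw [← hk]; exact Subgroup.orderOf_coe a⟩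
  rw [h1]
  refine ⟨P.isPGroup'.map _, ?_⟩
  rw [← Nat.card_congr ((P : Subgroup M).equivMapOfInjective _ M.subtype_injective).toEquiv]
  exact P.card_eq_multiplicity

/-- A maximal invariant subgroup of order prime to three. -/
structure Max (x : G) (M : Subgroup G) : Prop where
  ne_bot : M ≠ ⊥
  p3 : P3 M
  inv : Inv x M
  max : ∀ R : Subgroup G, P3 R → Inv x R → M ≤ R → R = M

theorem exists_max {R : Subgroup G} (hR : R ≠ ⊥) (h3 : P3 R) (hI : Inv x R) :
    ∃ M, Max x M ∧ R ≤ M := by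
  have hs : {S : Subgroup G | P3 S ∧ Inv x S ∧ R ≤ S}.Nonempty := ⟨R, h3, hI, le_rfl⟩
  obtain ⟨M, hM⟩ := (Set.toFinite {S : Subgroup G | P3 S ∧ Inv x S ∧ R ≤ S}).exists_maximal hs
  exact ⟨M, ⟨fun e => hR (le_bot_iff.1 (e ▸ hM.prop.2.2)), hM.prop.1, hM.prop.2.1, fun S h1 h2 h3' =>
    le_antisymm (hM.le_of_ge ⟨h1, h2, hM.prop.2.2.trans h3'⟩ h3') h3'⟩, hM.prop.2.2⟩

/-- The inductive setting: a simple group all of whose proper subgroups containing `x` are known. -/
structure Setting (x t : G) : Prop where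
  hyp : Hyp x
  inverts : Inverts t x
  simple : IsSimpleGroup G
  sub : ∀ L : Subgroup G, L ≠ ⊤ → x ∈ L → Concl L

variable (S : Setting x t) {M M' : Subgroup G}
include S

theorem Max.isNilpotent (hM : Max x M) : Group.IsNilpotent M :=
  SelfCentThree.isNilpotent S.hyp hM.p3 hM.inv

theorem Setting.ne_top {R : Subgroup G} (hR : P3 R) : R ≠ ⊤ := fun e =>
  not_mem_of_p3 S.hyp hR (e ▸ mem_top x)

theorem Setting.normalizer_ne_top {R : Subgroup G} (hR : P3 R) (h1 : R ≠ ⊥) :
    normalizer (R : Set G) ≠ ⊤ := fun e =>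
  ((S.simple.eq_bot_or_eq_top_of_normal R (normalizer_eq_top_iff.1 e)).elim h1 (S.ne_top hR))

/-- Normal subgroups of order prime to three lie in the kernel. -/
theorem Setting.le_kernel {L : Subgroup G} (hx : x ∈ L) {K N : Subgroup L} [K.Normal] [N.Normal]
    (hK : P3 K) (hi : K.index = 3 ∨ K.index = 6 ∨ MaxNormal K) (hN : P3 N) : N ≤ K := by
  have hL := S.hyp.sub L hx
  rcases hi with e | e | hm
  · exact le_of_index hL hK (Or.inl e) hN inv_of_normal
  · exact le_of_index hL hK (Or.inr e) hN inv_of_normal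
  · rcases hm (N ⊔ K) inferInstance le_sup_right with e | e
    · exact le_sup_left.trans e.le
    · exact absurd (mem_top _) (not_mem_of_p3 hL (e ▸ hN.sup_normal hK))

theorem Max.x_mem (hM : Max x M) : x ∈ normalizer (M : Set G) := hM.inv.mem_normalizer S.hyp

theorem Max.index_normalizer (hM : Max x M) :
    (M.subgroupOf (normalizer (M : Set G))).index = 3 ∨
      (M.subgroupOf (normalizer (M : Set G))).index = 6 := by
  set L := normalizer (M : Set G) with hL
  have hxL : x ∈ L := hM.x_mem S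
  have hLy := S.hyp.sub L hxL
  obtain ⟨K, hKn, hK, hi⟩ := S.sub L (S.normalizer_ne_top hM.p3 hM.ne_bot) hxL
  have hN : (M.subgroupOf L).Normal := inferInstance
  have hle : M.subgroupOf L ≤ K :=
    S.le_kernel hxL hK (hi.imp id (Or.imp id fun h => h.2.2.2)) (hM.p3.subgroupOf le_normalizer)
  have up : ∀ R : Subgroup L, P3 R → Inv (⟨x, hxL⟩ : L) R → M.subgroupOf L ≤ R →
      R = M.subgroupOf L := by
    intro R hR hI hle
    have e := hM.max (R.map L.subtype) (hR.map _) (hI.map L.subtype) fun a ha =>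
      ⟨⟨a, le_normalizer ha⟩, hle ha, rfl⟩
    refine le_antisymm (fun r hr => ?_) hle
    show (r : G) ∈ M
    rw [← e]; exact ⟨r, hr, rfl⟩
  have hKM := up K hK inv_of_normal hle
  subst hKM
  rcases hi with e | e | ⟨e | e, -, hb, hm⟩
  · exact Or.inl e
  · exact Or.inr e
  · exfalso
    have := isSimpleGroup_quot (by omega) hm
    obtain ⟨V, hV, hVI⟩ := exists_four_sixty (hLy.quot hK) (by rw [← index_eq_card, e])
    set f := QuotientGroup.mk' (M.subgroupOf L)
    have hfs : Function.Surjective f := QuotientGroup.mk'_surjective _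
    have h1 := up (V.comap f) (P3.comap f hfs (by rwa [QuotientGroup.ker_mk']) (by
      rw [P3, hV]; norm_num)) (hVI.comap f) (fun a ha => by
        rw [mem_comap, show f a = 1 from (QuotientGroup.eq_one_iff a).2 ha]; exact V.one_mem)
    have h2 := map_comap_eq_self_of_surjective hfs V
    rw [h1, QuotientGroup.map_mk'_self] at h2
    rw [← h2, card_bot] at hV
    omega
  · exfalso
    refine hM.ne_bot ?_
    have := hb e
    rwa [subgroupOf_eq_bot, disjoint_of_le_iff_left_eq_bot le_normalizer] at this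

theorem Max.card_normalizer_dvd (hM : Max x M) :
    Nat.card (normalizer (M : Set G)) ∣ 6 * Nat.card M := by
  rw [← (M.subgroupOf (normalizer (M : Set G))).card_mul_index,
    Nat.card_congr (subgroupOfEquivOfLe le_normalizer).toEquiv]
  rcases hM.index_normalizer S with e | e <;> rw [e, mul_comm]
  exact mul_dvd_mul_right (by norm_num) _

/-- Invariant subgroups of the normaliser lie in `M`. -/
theorem Max.absorb (hM : Max x M) {y : G} (hy : orderOf y = 3) (hyL : y ∈ normalizer (M : Set G))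
    {R : Subgroup G} (hR : R ≤ normalizer (M : Set G)) (h3 : P3 R) (hI : Inv y R) : R ≤ M := by
  have h1 := le_of_index ((S.hyp.of_order hy).sub _ hyL) (K := M.subgroupOf (normalizer (M : Set G)))
    (hM.p3.subgroupOf le_normalizer) (hM.index_normalizer S) (h3.subgroupOf hR) (hI.subgroupOf _ hyL)
  exact fun a ha => h1 (show (⟨a, hR ha⟩ : normalizer (M : Set G)) ∈ R.subgroupOf _ from ha)

theorem Max.t_not_mem (hM : Max x M) : t ∉ M := fun h => by
  have h1 : (x * t * x⁻¹) * t⁻¹ ∈ M := M.mul_mem (hM.inv t h) (M.inv_mem h)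
  rw [show (x * t * x⁻¹) * t⁻¹ = x * (t * x⁻¹ * t⁻¹) by group, S.inverts.conj_inv, S.hyp.mul_self] at h1
  exact not_mem_of_p3 S.hyp hM.p3 (M.inv_mem_iff.1 h1)

theorem Max.card_normalizer (hM : Max x M) :
    (t ∈ normalizer (M : Set G) → Nat.card (normalizer (M : Set G)) = 6 * Nat.card M) ∧
    (t ∉ normalizer (M : Set G) → Nat.card (normalizer (M : Set G)) = 3 * Nat.card M) := by
  set L := normalizer (M : Set G) with hL
  set K := M.subgroupOf L with hKdef
  have hcard : Nat.card L = K.index * Nat.card M := by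
    rw [← K.index_mul_card, Nat.card_congr (subgroupOfEquivOfLe le_normalizer).toEquiv]
  have hK : P3 K := hM.p3.subgroupOf le_normalizer
  have hxL : x ∈ L := hM.x_mem S
  refine ⟨fun ht => ?_, fun ht => ?_⟩
  · rcases hM.index_normalizer S with e | e
    · exfalso
      refine hM.t_not_mem S ?_
      show (⟨t, ht⟩ : L) ∈ K
      rw [← QuotientGroup.eq_one_iff, ← orderOf_eq_one_iff]
      have h1 : orderOf ((⟨t, ht⟩ : L) : L ⧸ K) ∣ 2 :=
        orderOf_dvd_of_pow_eq_one (by
          rw [← QuotientGroup.mk_pow, pow_two,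
            show (⟨t, ht⟩ : L) * ⟨t, ht⟩ = 1 from Subtype.ext S.inverts.sq, QuotientGroup.mk_one])
      have h2 := orderOf_dvd_natCard ((⟨t, ht⟩ : L) : L ⧸ K)
      rw [← index_eq_card, e] at h2
      exact Nat.dvd_one.1 (by simpa using Nat.dvd_gcd h1 h2)
    · rw [hcard, e]
  · rcases hM.index_normalizer S with e | e
    · rw [hcard, e]
    · exfalso
      have hy := (S.hyp.sub L hxL).quot hK
      set f := QuotientGroup.mk' K with hf
      have h6 : Nat.card (L ⧸ K) = 6 := by rw [← index_eq_card]; exact e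
      have hX : (zpowers (f ⟨x, hxL⟩)).index = 2 := by
        have := (zpowers (f ⟨x, hxL⟩)).index_mul_card
        rw [h6, Nat.card_zpowers, hy.ord] at this
        omega
      have := normal_of_index_eq_two hX
      obtain ⟨g, hg⟩ : ∃ g, f g ∉ zpowers (f ⟨x, hxL⟩) := by
        by_contra! hall
        have : zpowers (f ⟨x, hxL⟩) = ⊤ := top_le_iff.1 fun q _ => by
          obtain ⟨g, rfl⟩ := QuotientGroup.mk'_surjective K q
          exact hall g
        rw [this, index_top] at hX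
        omega
      rcases hy.mem_three (this.conj_mem _ (mem_zpowers _) (f g)) with e1 | e1 | e1
      · exact hy.ne_one (conj_eq_one_iff.1 e1)
      · exact hg (hy.cent _ (mul_inv_eq_iff_eq_mul.1 e1))
      · have hu : (x⁻¹)⁻¹ * (g * x * (g : G)⁻¹) ∈ M := by
          show (⟨x, hxL⟩ : L)⁻¹⁻¹ * (g * ⟨x, hxL⟩ * g⁻¹) ∈ K
          rw [← QuotientGroup.eq_one_iff, ← QuotientGroup.mk'_apply, ← hf, map_mul, map_mul, map_mul,
            map_inv, map_inv, map_inv, e1, inv_inv, mul_inv_cancel]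
        obtain ⟨r, hr, hrx⟩ := exists_conj_eq S.hyp.inv hM.p3 (fun a ha => by
          rw [inv_inv]; exact hM.inv.back S.hyp ha) hu
        rw [mul_inv_cancel_left] at hrx
        have h1 : (r⁻¹ * g) * x * (r⁻¹ * g)⁻¹ = x⁻¹ := by
          rw [show (r⁻¹ * g) * x * (r⁻¹ * g)⁻¹ = r⁻¹ * (g * x * (g : G)⁻¹) * r by group, ← hrx]
          group
        have hrg : r⁻¹ * (g : G) ∈ L := L.mul_mem (L.inv_mem (le_normalizer hr)) g.2
        rcases S.inverts.normalizer_cases S.hyp (h1 ▸ (zpowers x).inv_mem (mem_zpowers x)) with e2 | e2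
        · obtain ⟨k, hk⟩ := mem_zpowers_iff.1 e2
          rw [← hk] at h1
          exact S.hyp.inv_ne (by rw [← h1]; group)
        · exact ht ((L.mul_mem_cancel_right hrg).1 (zpowers_le.2 hxL e2))

theorem Max.eq_or_conj (hM : Max x M) (hM' : Max x M') {g : G}
    (hx' : g * x * g⁻¹ ∈ normalizer (M' : Set G)) (hle : cj g M ≤ normalizer (M' : Set G)) :
    M' = M ∨ M' = cj t M := by
  have hyo : orderOf (g * x * g⁻¹) = 3 := (S.hyp.conj g).ord
  have h1 : cj g M ≤ M' := hM'.absorb S hyo hx' hle (hM.p3.cj g) (hM.inv.cj g)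
  have h2 : M ≤ cj g⁻¹ M' := by
    rw [← cj_inv_cj g M]; exact cj_mono _ h1
  have hI : Inv x (cj g⁻¹ M') := by
    have := (inv_of_mem_normalizer hx').cj g⁻¹
    rwa [show g⁻¹ * (g * x * g⁻¹) * g⁻¹⁻¹ = x by group] at this
  have h3 : cj g M = M' := by
    rw [← hM.max _ (hM'.p3.cj _) hI h2, cj_cj, mul_inv_cancel, cj_one]
  obtain ⟨k, hk⟩ := exists_conj (S.hyp.sub _ (hM'.x_mem S))
    (y := (⟨_, hx'⟩ : normalizer (M' : Set G))) (by rw [Subgroup.orderOf_mk]; exact hyo)
  have h4 : ((k : G)⁻¹ * g) * x * ((k : G)⁻¹ * g)⁻¹ ∈ zpowers x := by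
    rw [show ((k : G)⁻¹ * g) * x * ((k : G)⁻¹ * g)⁻¹ = (k : G)⁻¹ * (g * x * g⁻¹) * k by group]
    rcases hk with e | e <;> have e' := congrArg Subtype.val e <;>
      simp only [Subgroup.coe_mul, Subgroup.coe_inv] at e'
    · rw [← e']; simp [mul_assoc, mem_zpowers]
    · rw [← inv_inv (g * x * g⁻¹), ← e']; simp [mul_assoc, mem_zpowers]
  have h5 : cj ((k : G)⁻¹ * g) M = M' := by
    rw [← cj_cj, h3]; exact cj_eq_self (inv_mem k.2)
  rcases S.inverts.normalizer_cases S.hyp h4 with e | e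
  · left
    rw [← h5]
    exact cj_eq_self (zpowers_le.2 (hM.x_mem S) e)
  · right
    rw [← h5, show (k : G)⁻¹ * g = t * (t * ((k : G)⁻¹ * g)) by rw [← mul_assoc t, S.inverts.sq, one_mul],
      ← cj_cj, cj_eq_self (M := M) (g := t * ((k : G)⁻¹ * g)) (zpowers_le.2 (hM.x_mem S) e)]

/-- The normaliser of a subgroup of `M`. -/
theorem Max.charSub (hM : Max x M) {Q : Subgroup G} (h1 : Q ≠ ⊥) (hQM : Q ≤ M)
    (hMQ : M ≤ normalizer (Q : Set G)) (hxQ : x ∈ normalizer (Q : Set G)) :
    normalizer (Q : Set G) ≤ normalizer (M : Set G) ∨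
      (IsPGroup 2 M ∧ ¬ (t ∈ normalizer (Q : Set G) ∧ t ∈ normalizer (M : Set G))) := by
  have hQ3 : P3 Q := hM.p3.anti hQM
  set L := normalizer (Q : Set G) with hLdef
  have hLy := S.hyp.sub L hxQ
  obtain ⟨K, hKn, hK, hi⟩ := S.sub L (S.normalizer_ne_top hQ3 h1) hxQ
  have hN : (Q.subgroupOf L).Normal := inferInstance
  have hQK : Q.subgroupOf L ≤ K :=
    S.le_kernel hxQ hK (hi.imp id (Or.imp id fun h => h.2.2.2)) (hQ3.subgroupOf le_normalizer)
  have hM3 : P3 (M.subgroupOf L) := hM.p3.subgroupOf hMQ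
  have hMI := hM.inv.subgroupOf L hxQ
  -- `K` lies in `M`
  have hKM : K ≤ M.subgroupOf L := by
    have e := hM.max ((M.subgroupOf L ⊔ K).map L.subtype) ((hM3.sup_normal hK).map _)
      ((hMI.sup inv_of_normal).map L.subtype) fun a ha => ⟨⟨a, hMQ ha⟩, mem_sup_left ha, rfl⟩
    intro k hk
    show (k : G) ∈ M
    rw [← e]; exact ⟨k, mem_sup_right hk, rfl⟩
  have heq : M.subgroupOf L ≤ K → L ≤ normalizer (M : Set G) := fun hle => by
    have hn : (M.subgroupOf L).Normal := le_antisymm hKM hle ▸ hKn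
    exact (normal_subgroupOf_iff_le_normalizer hMQ).1 hn
  rcases hi with e | e | ⟨e | e, h2, hb, hm⟩
  · exact Or.inl (heq (le_of_index hLy hK (Or.inl e) hM3 hMI))
  · exact Or.inl (heq (le_of_index hLy hK (Or.inr e) hM3 hMI))
  · by_cases hle : M.subgroupOf L ≤ K
    · exact Or.inl (heq hle)
    set f := QuotientGroup.mk' K with hf
    have h60 : Nat.card (L ⧸ K) = 60 := by rw [← index_eq_card, e]
    refine Or.inr ⟨?_, fun ht => hle ?_⟩
    · have hc := card_sixty_inv (hLy.quot hK) h60 (hM3.map f) (hMI.map f)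
      have h4 : Nat.card ((M.subgroupOf L).map f) = 4 := hc.resolve_left fun e1 => hle (by
        rw [card_eq_one, Subgroup.map_eq_bot_iff, hf, QuotientGroup.ker_mk'] at e1
        exact e1)
      have h5 := relIndex_ker (K := M.subgroupOf L) f
      rw [h4, hf, QuotientGroup.ker_mk'] at h5
      have h6 : Nat.card M = Nat.card K * 4 := by
        rw [← Nat.card_congr (subgroupOfEquivOfLe hMQ).toEquiv, ← h5, ← relIndex_bot_left,
          ← relIndex_bot_left, relIndex_mul_relIndex ⊥ _ _ bot_le hKM]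
      have : Fact (Nat.Prime 2) := ⟨Nat.prime_two⟩
      obtain ⟨k, hk⟩ := IsPGroup.iff_card.1 h2
      exact IsPGroup.of_card (n := k + 2) (by rw [h6, hk, pow_add]; norm_num)
    · have hs : Inverts (f ⟨t, ht.1⟩) (f ⟨x, hxQ⟩) := by
        refine ⟨?_, ?_⟩
        · rw [← map_mul, show (⟨t, ht.1⟩ : L) * ⟨t, ht.1⟩ = 1 from Subtype.ext S.inverts.sq, map_one]
        · rw [← map_inv, ← map_inv, ← map_mul, ← map_mul]
          exact congrArg f (Subtype.ext S.inverts.conj)
      have htn : f ⟨t, ht.1⟩ ∈ normalizer ((M.subgroupOf L).map f : Set (L ⧸ K)) := by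
        refine le_normalizer_map f ⟨⟨t, ht.1⟩, ?_, rfl⟩
        exact mem_set_normalizer_iff.2 fun a => (mem_set_normalizer_iff.1 ht.2) (a : G)
      have h7 := card_sixty_inverts (hLy.quot hK) h60 hs (hM3.map f) (hMI.map f) htn
      rwa [Subgroup.map_eq_bot_iff, QuotientGroup.ker_mk'] at h7
  · exfalso
    rw [hb e, le_bot_iff, subgroupOf_eq_bot, disjoint_of_le_iff_left_eq_bot le_normalizer] at hQK
    exact h1 hQK

theorem Max.pc_ne_bot (hM : Max x M) {p : ℕ} [hp : Fact p.Prime] (hd : p ∣ Nat.card M) :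
    pc p M ≠ ⊥ := fun e => by
  have := hM.isNilpotent S
  have h1 := (pc_data (p := p) (M := M)).2
  rw [e, card_bot] at h1
  exact ((Nat.pow_eq_one.1 h1.symm).resolve_left hp.out.one_lt.ne')
    |> (Nat.Prime.factorization_pos_of_dvd hp.out Nat.card_pos.ne' hd).ne'

theorem Max.pc_normalizer (hM : Max x M) {p : ℕ} [hp : Fact p.Prime] (hd : p ∣ Nat.card M) :
    normalizer (pc p M : Set G) ≤ normalizer (M : Set G) := by
  rcases hM.charSub S (hM.pc_ne_bot S hd) (pc_le p M) (le_normalizer.trans (normalizer_le_pc p M))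
    (normalizer_le_pc p M (hM.x_mem S)) with e | ⟨h2, -⟩
  · exact e
  · have : Fact (Nat.Prime 2) := ⟨Nat.prime_two⟩
    obtain ⟨k, hk⟩ := IsPGroup.iff_card.1 h2
    obtain rfl : p = 2 :=
      (Nat.prime_dvd_prime_iff_eq hp.out Nat.prime_two).1 (hp.out.dvd_of_dvd_pow (hk ▸ hd))
    rw [pc_eq_self h2]

theorem Max.share (hM : Max x M) (hM' : Max x M') {p : ℕ} [Fact p.Prime]
    (hd : p ∣ Nat.card M') {g : G} (hg : cj g (pc p M) = pc p M') : M' = M ∨ M' = cj t M := by
  have h1 : ∀ a ∈ normalizer (M : Set G), g * a * g⁻¹ ∈ normalizer (M' : Set G) := fun a ha => by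
    refine hM'.pc_normalizer S hd ?_
    rw [← hg]
    exact mem_normalizer_cj (normalizer_le_pc p M ha)
  refine hM.eq_or_conj S hM' (h1 x (hM.x_mem S)) fun a ha => ?_
  have := h1 _ (le_normalizer (mem_cj.1 ha))
  rwa [show g * (g⁻¹ * a * g) * g⁻¹ = a by group] at this

/-- A `p`-subgroup whose normaliser has no larger `p`-part is Sylow. -/
theorem Setting.sylow_card {p n : ℕ} [Fact p.Prime] {T : Subgroup G} (hT : Nat.card T = p ^ n)
    (hN : ¬ p ^ (n + 1) ∣ Nat.card (normalizer (T : Set G))) : ¬ p ^ (n + 1) ∣ Nat.card G :=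
  fun h => hN (Sylow.prime_pow_dvd_card_normalizer h hT)

theorem Max.odd_sylow (hM : Max x M) {p : ℕ} [hp : Fact p.Prime] (hp2 : p ≠ 2)
    (hd : p ∣ Nat.card M) : (Nat.card G).factorization p = (Nat.card M).factorization p := by
  have := hM.isNilpotent S
  have hp3 : p ≠ 3 := fun e => hM.p3 (e ▸ hd)
  have hc : (6 : ℕ).Coprime (p ^ ((Nat.card M).factorization p + 1)) := by
    refine Nat.Coprime.pow_right _ (Nat.Coprime.symm (hp.out.coprime_iff_not_dvd.2 fun h6 => ?_))
    rcases hp.out.dvd_mul.1 (show p ∣ 2 * 3 from h6) with e | e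
    · exact hp2 ((Nat.prime_dvd_prime_iff_eq hp.out Nat.prime_two).1 e)
    · exact hp3 ((Nat.prime_dvd_prime_iff_eq hp.out Nat.prime_three).1 e)
  have h1 := S.sylow_card (T := pc p M) pc_data.2 fun h2 =>
    Nat.pow_succ_factorization_not_dvd Nat.card_pos.ne' hp.out
      (hc.symm.dvd_of_dvd_mul_left ((h2.trans (card_dvd_of_le (hM.pc_normalizer S hd))).trans
        (hM.card_normalizer_dvd S)))
  refine le_antisymm ?_ ((Nat.factorization_le_iff_dvd Nat.card_pos.ne' Nat.card_pos.ne').2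
    (card_subgroup_dvd_card M) p)
  by_contra! hlt
  exact h1 ((hp.out.pow_dvd_iff_le_factorization Nat.card_pos.ne').2 hlt)

theorem Max.share_odd (hM : Max x M) (hM' : Max x M') {p : ℕ} [hp : Fact p.Prime] (hp2 : p ≠ 2)
    (hd : p ∣ Nat.card M) (hd' : p ∣ Nat.card M') : M' = M ∨ M' = cj t M := by
  have := hM.isNilpotent S
  have := hM'.isNilpotent S
  let P : Sylow p G := Sylow.ofCard (pc p M) (by rw [pc_data.2, hM.odd_sylow S hp2 hd])
  let P' : Sylow p G := Sylow.ofCard (pc p M') (by rw [pc_data.2, hM'.odd_sylow S hp2 hd'])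
  obtain ⟨g, hg⟩ := MulAction.exists_smul_eq G P P'
  exact hM.share S hM' hd' (g := g) (congrArg Sylow.toSubgroup hg)

end Cfsg.Lib.SelfCentThree
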