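import Cfsg.Agent.SelfCentThree.Basic
import Cfsg.Agent.Small.Order168

/-!
Groups with a self-centralising subgroup of order three: conjugacy of the elements of order three,
quotients, and the quotients of order 60 and 168.
-/

set_option linter.unusedSectionVars false

namespace Cfsg.Lib.SelfCentThree

open Subgroup
open scoped Pointwise

universe u v

variable {G : Type u} [Group G] {x t : G}

theorem conj_mem_map_iff {H : Subgroup G} {g a : G} :
    a ∈ H.map (MulAut.conj g).toMonoidHom ↔ g⁻¹ * a * g ∈ H := by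
  rw [mem_map]
  constructor
  · rintro ⟨h, hh, rfl⟩
    simpa [mul_assoc] using hh
  · exact fun h => ⟨_, h, by simp [mul_assoc]⟩

theorem Hyp.conj (h : Hyp x) (g : G) : Hyp (g * x * g⁻¹) := by
  refine ⟨(h.ord ▸ orderOf_injective (MulAut.conj g).toMonoidHom (MulAut.conj g).injective x : _), fun w hw => ?_⟩
  have h1 : Commute (g⁻¹ * w * g) x := by
    have := hw.map (MulAut.conj g⁻¹).toMonoidHom
    simpa [mul_assoc] using this
  obtain ⟨k, hk⟩ := mem_zpowers_iff.1 (h.cent _ h1)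
  refine mem_zpowers_iff.2 ⟨k, ?_⟩
  rw [conj_zpow, hk]; group

theorem Hyp.inv (h : Hyp x) : Hyp x⁻¹ :=
  ⟨by rw [orderOf_inv, h.ord], fun w hw => by rw [zpowers_inv]; exact h.cent w (by simpa using hw.inv_right)⟩

theorem Hyp.sub (h : Hyp x) (L : Subgroup G) (hx : x ∈ L) : Hyp (⟨x, hx⟩ : L) := by
  refine ⟨by rw [← Subgroup.orderOf_coe]; exact h.ord, fun w hw => ?_⟩
  obtain ⟨k, hk⟩ := mem_zpowers_iff.1 (h.cent w (congrArg Subtype.val hw.eq))
  exact mem_zpowers_iff.2 ⟨k, Subtype.ext (by rw [Subgroup.coe_zpow]; exact hk)⟩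

theorem Inverts.ne_one (h : Hyp x) (ht : Inverts t x) : t ≠ 1 := fun e => by
  have := ht.conj
  rw [e] at this
  exact h.inv_ne (by simpa using this.symm)

theorem Inverts.not_mem (h : Hyp x) (ht : Inverts t x) : t ∉ zpowers x := fun hm => by
  obtain ⟨k, hk⟩ := mem_zpowers_iff.1 hm
  refine h.inv_ne ?_
  rw [← ht.conj, ← hk]; group

theorem Inverts.inv_eq (ht : Inverts t x) : t⁻¹ = t := inv_eq_of_mul_eq_one_left ht.sq

theorem Inverts.orderOf_eq (h : Hyp x) (ht : Inverts t x) : orderOf t = 2 := by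
  have : Fact (Nat.Prime 2) := ⟨Nat.prime_two⟩
  exact orderOf_eq_prime (by rw [pow_two]; exact ht.sq) (ht.ne_one h)

theorem Inverts.conj_inv (ht : Inverts t x) : t * x⁻¹ * t⁻¹ = x := by
  rw [← _root_.conj_inv, ht.conj, inv_inv]

/-- The normaliser of `zpowers x`. -/
theorem Inverts.normalizer_cases (h : Hyp x) (ht : Inverts t x) {g : G}
    (hg : g * x * g⁻¹ ∈ zpowers x) : g ∈ zpowers x ∨ t * g ∈ zpowers x := by
  rcases h.mem_three hg with e | e | e
  · exact absurd (conj_eq_one_iff.1 e) h.ne_one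
  · exact Or.inl (h.cent g (mul_inv_eq_iff_eq_mul.1 e))
  · refine Or.inr (h.cent _ ?_)
    show t * g * x = x * (t * g)
    have e1 : g * x = x⁻¹ * g := mul_inv_eq_iff_eq_mul.1 e
    have e2 : t * x⁻¹ = x * t := mul_inv_eq_iff_eq_mul.1 ht.conj_inv
    rw [mul_assoc, e1, ← mul_assoc, e2, mul_assoc]

variable [Finite G]

theorem exists_sylow_zpowers (h : Hyp x) [Fact (Nat.Prime 3)] :
    ∃ P : Sylow 3 G, (P : Subgroup G) = zpowers x := by
  have hp : IsPGroup 3 (zpowers x) := IsPGroup.of_card (n := 1) (by rw [Nat.card_zpowers, h.ord, pow_one])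
  obtain ⟨P, hP⟩ := hp.exists_le_sylow
  refine ⟨P, le_antisymm (fun w hw => ?_) hP⟩
  have : Nontrivial (P : Subgroup G) :=
    ⟨⟨⟨x, hP (mem_zpowers x)⟩, 1, fun e => h.ne_one (congrArg Subtype.val e)⟩⟩
  have := P.isPGroup'.center_nontrivial
  obtain ⟨⟨z, hz⟩, hz1⟩ := exists_ne (1 : center (P : Subgroup G))
  have hzc : ∀ w ∈ (P : Subgroup G), Commute (z : G) w := fun w hw =>
    (congrArg Subtype.val (mem_center_iff.1 hz ⟨w, hw⟩)).symm
  have hzx : (z : G) ∈ zpowers x := h.cent _ (hzc x (hP (mem_zpowers x)))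
  rcases h.mem_three hzx with e | e | e
  · exact absurd (Subtype.ext (Subtype.ext e)) hz1
  · exact h.cent w (e ▸ hzc w hw).symm
  · exact h.cent w (inv_inv x ▸ (e ▸ hzc w hw).symm.inv_right)

theorem not_nine (h : Hyp x) : ¬ 9 ∣ Nat.card G := fun h9 => by
  have : Fact (Nat.Prime 3) := ⟨Nat.prime_three⟩
  obtain ⟨P, hP⟩ := exists_sylow_zpowers h
  have h1 := P.pow_dvd_card_of_pow_dvd_card (n := 2) (by simpa using h9)
  rw [show Nat.card P = Nat.card (P : Subgroup G) from rfl, hP, Nat.card_zpowers, h.ord] at h1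
  norm_num at h1

theorem three_dvd (h : Hyp x) : 3 ∣ Nat.card G := h.ord ▸ orderOf_dvd_natCard x

theorem exists_conj (h : Hyp x) {y : G} (hy : orderOf y = 3) :
    ∃ g : G, g * x * g⁻¹ = y ∨ g * x * g⁻¹ = y⁻¹ := by
  have : Fact (Nat.Prime 3) := ⟨Nat.prime_three⟩
  obtain ⟨P, hP⟩ := exists_sylow_zpowers h
  obtain ⟨Q, hQ⟩ := (IsPGroup.of_card (p := 3) (n := 1)
    (show Nat.card (zpowers y) = 3 ^ 1 by rw [Nat.card_zpowers, hy, pow_one])).exists_le_sylow
  obtain ⟨g, rfl⟩ := MulAction.exists_smul_eq G P Q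
  have h1 : g⁻¹ * y * g ∈ zpowers x := by
    have := hQ (mem_zpowers y)
    rw [Sylow.coe_subgroup_smul, mem_pointwise_smul_iff_inv_smul_mem, hP] at this
    simpa [MulAut.smul_def, mul_assoc] using this
  refine ⟨g, ?_⟩
  rcases h.mem_three h1 with e | e | e
  · exfalso
    have : y = 1 := by
      calc y = g * (g⁻¹ * y * g) * g⁻¹ := by group
        _ = 1 := by rw [e]; group
    rw [this, orderOf_one] at hy
    omega
  · exact Or.inl (by rw [← e]; group)
  · exact Or.inr (by rw [show x = (g⁻¹ * y * g)⁻¹ by rw [e, inv_inv]]; group)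

theorem Hyp.of_order (h : Hyp x) {y : G} (hy : orderOf y = 3) : Hyp y := by
  obtain ⟨g, e | e⟩ := exists_conj h hy
  · exact e ▸ h.conj g
  · exact inv_inv y ▸ (e ▸ h.conj g).inv

theorem exists_inv_conj (h : Hyp x) {V : Subgroup G} (hV : 3 ∣ Nat.card (normalizer (V : Set G))) :
    ∃ W : Subgroup G, Nat.card W = Nat.card V ∧ Inv x W := by
  have : Fact (Nat.Prime 3) := ⟨Nat.prime_three⟩
  obtain ⟨⟨y, hyN⟩, hy⟩ := exists_prime_orderOf_dvd_card' 3 hV
  rw [← Subgroup.orderOf_coe] at hy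
  obtain ⟨g, hg⟩ := exists_conj h hy
  have hgN : g * x * g⁻¹ ∈ normalizer (V : Set G) := by
    rcases hg with e | e <;> rw [e]
    · exact hyN
    · exact inv_mem hyN
  refine ⟨V.map (MulAut.conj g⁻¹).toMonoidHom,
    Nat.card_congr (V.equivMapOfInjective _ (MulAut.conj g⁻¹).injective).toEquiv.symm, fun r hr => ?_⟩
  rw [conj_mem_map_iff, inv_inv] at hr ⊢
  have := ((mem_set_normalizer_iff.1 hgN) _).1 hr
  rwa [show g * (x * r * x⁻¹) * g⁻¹ = g * x * g⁻¹ * (g * r * g⁻¹) * (g * x * g⁻¹)⁻¹ by group]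

theorem exists_inverts_of (h : Hyp x) {g : G} (hg : g * x * g⁻¹ = x⁻¹) : ∃ t, Inverts t x := by
  have hg2 : Commute (g * g) x := by
    show g * g * x = x * (g * g)
    calc g * g * x = g * (g * x * g⁻¹) * g⁻¹ * (g * g) := by group
      _ = g * x⁻¹ * g⁻¹ * (g * g) := by rw [hg]
      _ = (g * x * g⁻¹)⁻¹ * (g * g) := by group
      _ = x * (g * g) := by rw [hg, inv_inv]
  have hm := h.cent _ hg2
  have h6 : g ^ 6 = 1 := by
    have e : (g * g) ^ 3 = 1 := by
      obtain ⟨k, hk⟩ := mem_zpowers_iff.1 hm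
      rw [← hk, ← zpow_natCast, ← zpow_mul, mul_comm, zpow_mul, zpow_natCast, h.pow3, one_zpow]
    rwa [← pow_two, ← pow_mul] at e
  refine ⟨g ^ 3, by rw [← pow_add]; exact h6, ?_⟩
  calc g ^ 3 * x * (g ^ 3)⁻¹ = g * ((g * g) * x * (g * g)⁻¹) * g⁻¹ := by
        rw [pow_succ' g 2, pow_two]; group
    _ = g * x * g⁻¹ := by rw [hg2.eq, mul_inv_cancel_right]
    _ = x⁻¹ := hg

/-- Burnside's transfer theorem when nothing inverts `x`. -/
theorem exists_normal_index_three (h : Hyp x) (hno : ¬ ∃ t, Inverts t x) :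
    ∃ K : Subgroup G, K.Normal ∧ P3 K ∧ K.index = 3 := by
  have : Fact (Nat.Prime 3) := ⟨Nat.prime_three⟩
  obtain ⟨P, hP⟩ := exists_sylow_zpowers h
  have hN : normalizer ((P : Subgroup G) : Set G) ≤ centralizer ((P : Subgroup G) : Set G) := by
    intro g hg
    rw [hP] at hg ⊢
    have h1 := ((mem_set_normalizer_iff.1 hg) x).1 (mem_zpowers x)
    rcases h.mem_three h1 with e | e | e
    · exact absurd (conj_eq_one_iff.1 e) h.ne_one
    · refine mem_centralizer_iff.2 fun w hw => ?_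
      obtain ⟨k, rfl⟩ := mem_zpowers_iff.1 hw
      exact ((show Commute g x from mul_inv_eq_iff_eq_mul.1 e).zpow_right k).eq.symm
    · exact absurd (exists_inverts_of h e) hno
  have hc := MonoidHom.ker_transferSylow_isComplement' P hN
  refine ⟨(MonoidHom.transferSylow P hN).ker, inferInstance, fun h3 => not_nine h ?_, ?_⟩
  · rw [← hc.card_mul]
    have : Nat.card (P : Subgroup G) = 3 := by rw [hP, Nat.card_zpowers, h.ord]
    rw [this]
    exact mul_dvd_mul h3 dvd_rfl
  · rw [hc.symm.index_eq_card, hP, Nat.card_zpowers, h.ord]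

section Quotient

variable {H : Type v} [Group H] (f : G →* H)

theorem Hyp.map (h : Hyp x) (hs : Function.Surjective f) (hP : P3 f.ker) : Hyp (f x) := by
  have : Fact (Nat.Prime 3) := ⟨Nat.prime_three⟩
  refine ⟨orderOf_eq_prime (by rw [← map_pow, h.pow3, map_one]) fun e => not_mem_of_p3 h hP (MonoidHom.mem_ker.2 e),
    fun w hw => ?_⟩
  obtain ⟨g, rfl⟩ := hs w
  have hu : x⁻¹ * (g * x * g⁻¹) ∈ f.ker := by
    rw [MonoidHom.mem_ker, map_mul, map_mul, map_mul, map_inv, map_inv, hw.eq, mul_inv_cancel_right,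
      inv_mul_cancel]
  obtain ⟨r, hr, hrx⟩ := exists_conj_eq h hP inv_of_normal hu
  have hc : Commute (r⁻¹ * g) x := by
    show r⁻¹ * g * x = x * (r⁻¹ * g)
    calc r⁻¹ * g * x = r⁻¹ * (x * (x⁻¹ * (g * x * g⁻¹))) * g := by group
      _ = r⁻¹ * (r * x * r⁻¹) * g := by rw [hrx]
      _ = x * (r⁻¹ * g) := by group
  obtain ⟨k, hk⟩ := mem_zpowers_iff.1 (h.cent _ hc)
  refine mem_zpowers_iff.2 ⟨k, ?_⟩
  rw [← map_zpow, hk, map_mul, map_inv, MonoidHom.mem_ker.1 hr, inv_one, one_mul]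

theorem P3.comap (hs : Function.Surjective f) (hP : P3 f.ker) {R : Subgroup H} (hR : P3 R) :
    P3 (R.comap f) := by
  intro h3
  have h1 := relIndex_ker (K := R.comap f) f
  rw [map_comap_eq_self_of_surjective hs] at h1
  have hle : f.ker ≤ R.comap f := fun a ha => by
    rw [mem_comap, MonoidHom.mem_ker.1 ha]; exact R.one_mem
  have h2 : Nat.card f.ker * f.ker.relIndex (R.comap f) = Nat.card (R.comap f) := by
    rw [← relIndex_bot_left, ← relIndex_bot_left, relIndex_mul_relIndex ⊥ _ _ bot_le hle]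
  rw [h1] at h2
  rw [← h2] at h3
  rcases Nat.prime_three.dvd_mul.1 h3 with e | e
  · exact hP e
  · exact hR e

end Quotient

section Small

variable {Q : Type u} [Group Q] [Finite Q]

theorem card_six_inv {y : Q} (h : Hyp y) (hc : Nat.card Q = 3 ∨ Nat.card Q = 6) {R : Subgroup Q}
    (hP : P3 R) (hI : Inv y R) : R = ⊥ := by
  rw [← card_eq_one]
  have h1 := card_mod_three h hP hI
  have h2 : Nat.card R ∣ 6 := by
    rcases hc with e | e
    · exact (e ▸ card_subgroup_dvd_card R).trans (by norm_num)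
    · exact e ▸ card_subgroup_dvd_card R
  have h3 := Nat.le_of_dvd (by norm_num) h2
  interval_cases Nat.card R <;> omega

theorem card_sixty_inv {y : Q} (h : Hyp y) (hc : Nat.card Q = 60) {R : Subgroup Q} (hP : P3 R)
    (hI : Inv y R) : Nat.card R = 1 ∨ Nat.card R = 4 := by
  have h1 := card_mod_three h hP hI
  have h2 : Nat.card R ∣ 60 := hc ▸ card_subgroup_dvd_card R
  have h3 : Nat.card R ∈ Nat.divisors 60 := Nat.mem_divisors.2 ⟨h2, by norm_num⟩
  have h4 := four_dvd h hP hI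
  rw [show Nat.divisors 60 = {1, 2, 3, 4, 5, 6, 10, 12, 15, 20, 30, 60} by decide] at h3
  simp only [Finset.mem_insert, Finset.mem_singleton] at h3
  omega

theorem card_sixty_inverts {y s : Q} (h : Hyp y) (hc : Nat.card Q = 60) (hs : Inverts s y)
    {R : Subgroup Q} (hP : P3 R) (hI : Inv y R) (hsR : s ∈ normalizer (R : Set Q)) : R = ⊥ := by
  rw [← card_eq_one]
  refine (card_sixty_inv h hc hP hI).resolve_right fun h4 => ?_
  have : Fact (Nat.Prime 2) := ⟨Nat.prime_two⟩
  have h2 : IsPGroup 2 (R ⊔ zpowers s : Subgroup Q) :=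
    (IsPGroup.of_card (n := 2) (by rw [h4]; norm_num)).to_sup_of_normal_left'
      (IsPGroup.of_card (n := 1) (by rw [Nat.card_zpowers, hs.orderOf_eq h, pow_one]))
      (zpowers_le.2 hsR)
  obtain ⟨k, hk⟩ := IsPGroup.iff_card.1 h2
  have h5 : 2 ^ k ∣ 60 := hc ▸ hk ▸ card_subgroup_dvd_card _
  have h6 : k ≤ 2 := by
    by_contra! hk3
    have := (pow_dvd_pow 2 hk3).trans h5
    norm_num at this
  have he : R = R ⊔ zpowers s := Subgroup.eq_of_le_of_card_ge le_sup_left (by
    rw [h4, hk]; exact Nat.pow_le_pow_right (by norm_num) h6)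
  have hsR' : s ∈ R := he ▸ mem_sup_right (mem_zpowers s)
  have h7 : (y * s * y⁻¹) * s⁻¹ ∈ R := R.mul_mem (hI s hsR') (R.inv_mem hsR')
  rw [show (y * s * y⁻¹) * s⁻¹ = y * (s * y⁻¹ * s⁻¹) by group, hs.conj_inv, h.mul_self] at h7
  exact not_mem_of_p3 h hP (R.inv_mem_iff.1 h7)

theorem exists_four_sixty [IsSimpleGroup Q] {y : Q} (h : Hyp y) (hc : Nat.card Q = 60) :
    ∃ V : Subgroup Q, Nat.card V = 4 ∧ Inv y V := by
  have : Fact (Nat.Prime 2) := ⟨Nat.prime_two⟩
  obtain ⟨V, hV⟩ := Sylow.exists_subgroup_card_pow_prime 2 (G := Q) (n := 2) (by rw [hc]; norm_num)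
  suffices h3 : 3 ∣ Nat.card (normalizer (V : Set Q)) by
    obtain ⟨W, hW, hI⟩ := exists_inv_conj h h3
    exact ⟨W, hW.trans (hV.trans (by norm_num)), hI⟩
  by_contra h3
  norm_num at hV
  set N := normalizer (V : Set Q) with hN
  have hd4 : 4 ∣ Nat.card N := hV ▸ card_dvd_of_le le_normalizer
  have hd : Nat.card N ∈ Nat.divisors 60 :=
    Nat.mem_divisors.2 ⟨hc ▸ card_subgroup_dvd_card N, by norm_num⟩
  rw [show Nat.divisors 60 = {1, 2, 3, 4, 5, 6, 10, 12, 15, 20, 30, 60} by decide] at hd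
  simp only [Finset.mem_insert, Finset.mem_singleton] at hd
  have hm := N.index_mul_card
  rw [hc] at hm
  obtain e | e : Nat.card N = 4 ∨ Nat.card N = 20 := by omega
  · have hNV : V = N := Subgroup.eq_of_le_of_card_ge le_normalizer (by rw [e, hV])
    have hab : ∀ a ∈ N, ∀ b ∈ N, a * b = b * a := fun a ha b hb =>
      congrArg Subtype.val (IsPGroup.commutative_of_card_eq_prime_sq (p := 2) (G := N) (by rw [e]; norm_num)
        ⟨a, ha⟩ ⟨b, hb⟩)
    let P : Sylow 2 Q := Sylow.ofCard V (by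
      have h60 : (Nat.factorization 60) 2 = 2 := by
        rw [show (60 : ℕ) = 2 ^ 2 * 15 by norm_num, Nat.factorization_mul (by norm_num) (by norm_num),
          Finsupp.add_apply, Nat.Prime.factorization_pow Nat.prime_two, Finsupp.single_eq_same,
          Nat.factorization_eq_zero_of_not_dvd (show ¬ 2 ∣ 15 by norm_num)]
      rw [hV, hc, h60]; norm_num)
    have hc' := MonoidHom.ker_transferSylow_isComplement' P (fun g hg => mem_centralizer_iff.2 fun w hw =>
      hab w (le_normalizer hw) g hg)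
    have h1 := hc'.card_mul
    have hPc : Nat.card (P : Subgroup Q) = 4 := hV
    rw [hPc, hc] at h1
    rcases (inferInstance : (MonoidHom.transferSylow P _).ker.Normal).eq_bot_or_eq_top with e1 | e1
    · rw [e1, card_bot] at h1; omega
    · rw [e1, card_top, hc] at h1; omega
  · rw [e] at hm
    have hk : N.normalCore = ⊥ := by
      refine (N.normalCore_normal.eq_bot_or_eq_top).resolve_right fun e1 => ?_
      have h1 : N = ⊤ := top_le_iff.1 (e1 ▸ N.normalCore_le)
      rw [h1, card_top, hc] at e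
      omega
    rw [normalCore_eq_ker] at hk
    have h1 := Nat.card_le_card_of_injective _ ((MonoidHom.ker_eq_bot_iff _).1 hk)
    rw [Nat.card_perm, hc, ← index_eq_card, show N.index = 3 by omega] at h1
    norm_num [Nat.factorial] at h1

theorem exists_four_oneSixtyEight [IsSimpleGroup Q] {y : Q} (h : Hyp y) (hc : Nat.card Q = 168) :
    ∃ V : Subgroup Q, Nat.card V = 4 ∧ Inv y V := by
  have : Fact (Nat.Prime 2) := ⟨Nat.prime_two⟩
  obtain ⟨T⟩ : Nonempty (Sylow 2 Q) := inferInstance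
  obtain ⟨U, -, -, -, -, hU, -⟩ := Cfsg.Lib.Small.Order168.klein_two hc T
  obtain ⟨W, hW, hI⟩ := exists_inv_conj h (V := U)
    (by rw [(Cfsg.Lib.Small.Order168.normalizer_klein hc U).1]; norm_num)
  exact ⟨W, hW.trans IsKleinFour.card_four, hI⟩

theorem exists_seven_oneSixtyEight [IsSimpleGroup Q] {y : Q} (h : Hyp y) (hc : Nat.card Q = 168) :
    ∃ V : Subgroup Q, Nat.card V = 7 ∧ Inv y V := by
  have : Fact (Nat.Prime 7) := ⟨by norm_num⟩
  obtain ⟨P⟩ : Nonempty (Sylow 7 Q) := inferInstance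
  obtain ⟨W, hW, hI⟩ := exists_inv_conj h (V := (P : Subgroup Q))
    (by rw [Cfsg.Lib.Small.Order168.card_normalizer_seven hc P]; norm_num)
  exact ⟨W, hW.trans (Cfsg.Lib.Small.Order168.sylow_seven_card hc P), hI⟩

end Small

end Cfsg.Lib.SelfCentThree
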