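import Cfsg.Agent.SelfCentThree.TwoPart
import Cfsg.Agent.Chars.Count

/-!
Groups with a self-centralising subgroup of order three: counting the two-parts of order four.
-/

set_option linter.unusedSectionVars false

namespace Cfsg.Lib.SelfCentThree

open Subgroup
open scoped Pointwise commutatorElement

universe u

/-- The commutator subgroup of a nonabelian two-group has index at least four. -/
theorem four_le_index_commutator {P : Type u} [Group P] [Finite P] (hP : IsPGroup 2 P)
    (hc : ¬ ∀ a b : P, a * b = b * a) : 4 ≤ (commutator P).index := by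
  have : Fact (Nat.Prime 2) := ⟨Nat.prime_two⟩
  have : Nontrivial P := not_subsingleton_iff_nontrivial.1 fun _ => hc fun a b => Subsingleton.elim _ _
  have := hP.isNilpotent
  obtain ⟨n, hn⟩ := IsPGroup.iff_card.1 hP
  have h1 : (commutator P).index ∣ 2 ^ n := hn ▸ (commutator P).index_dvd_card
  obtain ⟨k, hkn, hk⟩ := (Nat.dvd_prime_pow Nat.prime_two).1 h1
  by_contra! hlt
  have hk2 : k < 2 := by
    by_contra! h
    have := Nat.pow_le_pow_right (show 2 > 0 by norm_num) h
    rw [hk] at hlt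
    omega
  interval_cases k
  · simp only [pow_zero, index_eq_one] at hk
    exact (IsSolvable.commutator_lt_top_of_nontrivial P).ne hk
  · norm_num at hk
    obtain ⟨g, hg⟩ : ∃ g, g ∉ commutator P := by
      by_contra! hall
      rw [(eq_top_iff' _).2 hall, index_top] at hk
      omega
    obtain ⟨j, hjn, hj⟩ := (Nat.dvd_prime_pow Nat.prime_two).1 (hn ▸ orderOf_dvd_natCard g)
    rcases lt_or_ge j n with hjn' | hjn'
    · obtain ⟨H, hH, hgH⟩ := Sylow.exists_subgroup_card_pow_prime_le 2 (n := j) (m := n - 1)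
        (by rw [hn]; exact pow_dvd_pow 2 (by omega)) (zpowers g) (by rw [Nat.card_zpowers, hj]) (by omega)
      have hHi : H.index = 2 := by
        have := H.card_mul_index
        rw [hn, hH, show (2 : ℕ) ^ n = 2 ^ (n - 1) * 2 by rw [← pow_succ]; congr 1; omega] at this
        exact Nat.eq_of_mul_eq_mul_left (by positivity) this
      have := normal_of_index_eq_two hHi
      have hle : commutator P ≤ H := by
        have hcard : Nat.card (P ⧸ H) = 2 := by rw [← index_eq_card]; exact hHi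
        have : IsCyclic (P ⧸ H) := isCyclic_of_prime_card hcard
        let _ := IsCyclic.commGroup (α := P ⧸ H)
        exact (Subgroup.Normal.quotient_commutative_iff_commutator_le).mp ⟨⟨mul_comm⟩⟩
      exact hg (Subgroup.eq_of_le_of_card_ge hle (Nat.eq_of_mul_eq_mul_right (show 0 < 2 by norm_num)
        (by conv_lhs => rw [← hHi, H.card_mul_index, ← (commutator P).card_mul_index, hk])).le ▸
          hgH (mem_zpowers g))
    · have : IsCyclic P := isCyclic_of_orderOf_eq_card g (by rw [hj, hn, le_antisymm hjn hjn'])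
      let _ := IsCyclic.commGroup (α := P)
      exact hc mul_comm

variable {G : Type u} [Group G] [Finite G] {x t : G}

/-- `M` has a two-part of order four and is normalised by `t`. -/
structure Small (x t : G) (M : Subgroup G) : Prop where
  max : Max x M
  ht : t ∈ normalizer (M : Set G)
  card : Nat.card (pc 2 M) = 4

variable (S : Setting x t) {M M' : Subgroup G}
include S

theorem Small.two_dvd (hM : Small x t M) : 2 ∣ Nat.card M :=
  (show 2 ∣ 4 by norm_num).trans (hM.card ▸ card_dvd_of_le (pc_le 2 M))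

theorem Small.comm (hM : Small x t M) : ∀ a ∈ pc 2 M, ∀ b ∈ pc 2 M, Commute a b := fun a ha b hb => by
  have : Fact (Nat.Prime 2) := ⟨Nat.prime_two⟩
  exact congrArg Subtype.val (IsPGroup.commutative_of_card_eq_prime_sq (p := 2)
    (by rw [hM.card]; norm_num) (⟨a, ha⟩ : pc 2 M) ⟨b, hb⟩)

theorem Small.sq (hM : Small x t M) {a : G} (ha : a ∈ pc 2 M) : a ^ 2 = 1 := by
  obtain ⟨-, hI, h3, -⟩ := hM.max.two_card S (hM.two_dvd S)
  by_contra hne
  have hd : orderOf a ∣ 4 := hM.card ▸ Subgroup.orderOf_dvd_natCard _ ha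
  have h4 : orderOf a = 4 := by
    have := Nat.le_of_dvd (by norm_num) hd
    interval_cases h : orderOf a
    · simp at hd
    · exact absurd (by rw [orderOf_eq_one_iff.1 h, one_pow]) hne
    · exact absurd (h ▸ pow_orderOf_eq_one a) hne
    · norm_num at hd
    · rfl
  have hz : zpowers a = pc 2 M :=
    Subgroup.eq_of_le_of_card_ge (zpowers_le.2 ha) (by rw [hM.card, Nat.card_zpowers, h4])
  obtain ⟨k, hk⟩ := mem_zpowers_iff.1 (show x * a * x⁻¹ ∈ zpowers a by rw [hz]; exact hI a ha)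
  have hfix : Commute (a ^ 2) x := by
    refine (mul_inv_eq_iff_eq_mul.1 ?_).symm
    have e1 : x * a ^ 2 * x⁻¹ = a ^ (k * 2) := by
      rw [← conj_pow, ← hk, ← zpow_natCast, ← zpow_mul]; norm_num
    have h44 : a ^ (4 : ℤ) = 1 := by
      rw [show (4 : ℤ) = ((4 : ℕ) : ℤ) by norm_num, zpow_natCast, ← h4, pow_orderOf_eq_one]
    rcases Int.emod_two_eq_zero_or_one k with e | e
    · exfalso
      apply hne
      rw [show k * 2 = 4 * (k / 2) by omega, zpow_mul, h44, one_zpow, conj_eq_one_iff] at e1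
      exact e1
    · rw [e1, show k * 2 = 4 * (k / 2) + 2 by omega, zpow_add, zpow_mul, h44, one_zpow, one_mul]
      exact zpow_natCast a 2
  exact hne (fixed_eq_one S.hyp h3 (pow_mem ha 2) hfix)

theorem Small.eight (hM : Small x t M) : 8 ∣ Nat.card G := by
  obtain ⟨-, hc, -⟩ := hM.max.t_sup S (hM.two_dvd S) hM.ht
  rw [hM.card] at hc
  exact (show 8 = Nat.card (pc 2 M ⊔ zpowers t : Subgroup G) from hc.symm) ▸ card_subgroup_dvd_card _

theorem Small.cent (hM : Small x t M) {R : Subgroup G} (hR : IsPGroup 2 R) {g : G}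
    (hc : ∀ r ∈ R, ∀ v ∈ cj g (pc 2 M), Commute r v) : Nat.card R ≤ 4 := by
  set V := pc 2 M with hV
  have : Fact (Nat.Prime 2) := ⟨Nat.prime_two⟩
  set R' := cj g⁻¹ R with hR'
  have hR'c : R' ≤ centralizer (V : Set G) := by
    rintro - ⟨r, hr, rfl⟩
    rw [mem_centralizer_iff]
    intro v hv
    have := ((hc r hr _ (conj_mem_cj g hv)).map (MulAut.conj g⁻¹).toMonoidHom).symm
    simpa [mul_assoc] using this.eq
  set L := normalizer (M : Set G) with hL
  have hVne := hM.max.pc_ne_bot S (hM.two_dvd S)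
  have hR'L : R' ≤ L := (hR'c.trans (centralizer_le_normalizer _)).trans
    (hM.max.pc_normalizer S (hM.two_dvd S))
  by_contra! hlt
  obtain ⟨k, hk⟩ := IsPGroup.iff_card.1 hR
  set C := centralizer (V : Set G) ⊓ L with hC
  have h8 : 8 ∣ Nat.card C := by
    refine Dvd.dvd.trans ?_ (card_dvd_of_le (le_inf hR'c hR'L))
    rw [hR', card_cj, hk]
    rw [hk] at hlt
    exact (show 8 = 2 ^ 3 by norm_num) ▸ pow_dvd_pow 2 (by
      by_contra! h
      have := Nat.pow_le_pow_right (show 2 > 0 by norm_num) (show k ≤ 2 by omega)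
      omega)
  have hCn : (C.subgroupOf L).Normal := by
    refine (normal_subgroupOf_iff_le_normalizer inf_le_right).2 fun a ha => ?_
    rw [mem_set_normalizer_iff]
    have key : ∀ a ∈ L, ∀ c ∈ C, a * c * a⁻¹ ∈ C := by
      intro a ha c hc'
      refine ⟨mem_centralizer_iff.2 fun v hv => ?_, L.mul_mem (L.mul_mem ha hc'.2) (L.inv_mem ha)⟩
      have hv' := ((mem_set_normalizer_iff.1 (inv_mem (normalizer_le_pc 2 M ha))) v).1 hv
      have h1 : Commute (a⁻¹ * v * a⁻¹⁻¹) c := mem_centralizer_iff.1 hc'.1 _ hv'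
      have := h1.map (MulAut.conj a).toMonoidHom
      simpa [mul_assoc] using this.eq
    intro b
    refine ⟨key a ha b, fun hb => ?_⟩
    have := key a⁻¹ (L.inv_mem ha) _ hb
    rwa [show a⁻¹ * (a * b * a⁻¹) * a⁻¹⁻¹ = b by group] at this
  have hodd : ¬ 2 ∣ (C.subgroupOf L).index := by
    intro h2
    have h := mul_dvd_mul h8 h2
    rw [← Nat.card_congr (subgroupOfEquivOfLe (inf_le_right : C ≤ L)).toEquiv,
      (C.subgroupOf L).card_mul_index, (hM.max.card_normalizer S).1 hM.ht] at h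
    have h16 : 2 ^ 4 ∣ 2 * (3 * Nat.card M) := by rw [← mul_assoc]; exact h
    rw [pow_succ', mul_dvd_mul_iff_left (by norm_num : (2 : ℕ) ≠ 0)] at h16
    have h5 : 2 ^ 3 ∣ Nat.card M :=
      (Nat.Coprime.pow_left _ (show (2 : ℕ).Coprime 3 by norm_num)).dvd_of_dvd_mul_left h16
    have := hM.max.isNilpotent S
    have h6 := (Nat.prime_two.pow_dvd_iff_le_factorization Nat.card_pos.ne').1 h5
    have h7 := hM.card
    rw [pc_data.2] at h7
    have := Nat.pow_le_pow_right (show 2 > 0 by norm_num) h6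
    omega
  have htC : (⟨t, hM.ht⟩ : L) ∈ C.subgroupOf L := by
    rw [← QuotientGroup.eq_one_iff, ← orderOf_eq_one_iff]
    have h1 : orderOf ((⟨t, hM.ht⟩ : L) : L ⧸ C.subgroupOf L) ∣ 2 := orderOf_dvd_of_pow_eq_one (by
      rw [← QuotientGroup.mk_pow, pow_two,
        show (⟨t, hM.ht⟩ : L) * ⟨t, hM.ht⟩ = 1 from Subtype.ext S.inverts.sq, QuotientGroup.mk_one])
    have h2 := orderOf_dvd_natCard ((⟨t, hM.ht⟩ : L) : L ⧸ C.subgroupOf L)
    rw [← index_eq_card] at h2
    exact ((Nat.dvd_prime Nat.prime_two).1 h1).resolve_right fun e => hodd (e ▸ h2)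
  obtain ⟨v, hv, hv1⟩ := V.bot_or_exists_ne_one.resolve_left hVne
  have hxN : x ∈ normalizer (V : Set G) := normalizer_le_pc 2 M (hM.max.x_mem S)
  have hct : ∀ w ∈ V, Commute t w := fun w hw => ((mem_centralizer_iff.1 htC.1) w hw).symm
  have hct' : ∀ w ∈ V, Commute (x * t * x⁻¹) w := fun w hw => by
    have := (hct _ (((mem_set_normalizer_iff.1 (inv_mem hxN)) w).1 hw)).map (MulAut.conj x).toMonoidHom
    simpa [mul_assoc] using this
  refine hv1 (fixed_eq_one S.hyp hM.max.p3 (pc_le 2 M hv) ?_)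
  have h1 := ((hct v hv).mul_left (hct' v hv)).symm
  rwa [show t * (x * t * x⁻¹) = (t * x * t⁻¹) * (t * t) * x⁻¹ by group, S.inverts.conj, S.inverts.sq,
    mul_one, ← mul_inv_rev, S.hyp.mul_self, inv_inv] at h1

theorem Small.self_cent (hM : Small x t M) {T : Subgroup G} (hT : IsPGroup 2 T) {g : G}
    (hV : cj g (pc 2 M) ≤ T) {a : G} (ha : a ∈ T) (hc : ∀ v ∈ cj g (pc 2 M), Commute a v) :
    a ∈ cj g (pc 2 M) := by
  have h1 := hM.cent S (R := cj g (pc 2 M) ⊔ zpowers a) (hT.to_le (sup_le hV (zpowers_le.2 ha))) (g := g)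
    fun r hr v hv => sup_comm_commute (cj_comm (hM.comm S)) (zpowers_commute a)
      (fun b hb c hc' => by
        obtain ⟨k, rfl⟩ := mem_zpowers_iff.1 hc'
        exact ((hc b hb).zpow_left k).symm) r hr v (mem_sup_left hv)
  have := Subgroup.eq_of_le_of_card_ge (le_sup_left : cj g (pc 2 M) ≤ cj g (pc 2 M) ⊔ zpowers a)
    (by rw [card_cj, hM.card]; exact h1)
  rw [this]
  exact mem_sup_right (mem_zpowers a)

/-- A small two-part excludes a big one. -/
theorem Small.not_big (hM : Small x t M) {Q : Subgroup G} (hQI : Inv x Q) (hQ3 : P3 Q)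
    (h16 : 16 ≤ Nat.card Q) (T : Sylow 2 G) (hQT : Q ≤ (T : Subgroup G))
    (hidx : ∀ a ∈ (T : Subgroup G), ∀ b ∈ (T : Subgroup G), a ∉ Q → b ∉ Q → a * b ∈ Q)
    (hTn : (T : Subgroup G) ≤ normalizer (Q : Set G)) : False := by
  have : Fact (Nat.Prime 2) := ⟨Nat.prime_two⟩
  have hTp : IsPGroup 2 (T : Subgroup G) := T.isPGroup'
  have hQp : IsPGroup 2 Q := hTp.to_le hQT
  obtain ⟨-, -, -, -⟩ := hM.max.two_card S (hM.two_dvd S)
  obtain ⟨P, hP⟩ := ((hM.max.two_card S (hM.two_dvd S)).1).exists_le_sylow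
  obtain ⟨g, hg⟩ := MulAction.exists_smul_eq G P T
  set V := cj g (pc 2 M) with hVdef
  have hVT : V ≤ (T : Subgroup G) := by
    rw [← hg]; exact map_mono hP
  have hV4 : Nat.card V = 4 := by rw [hVdef, card_cj, hM.card]
  have hVc := cj_comm (g := g) (hM.comm S)
  -- the central involutions of `Q`
  let W : Subgroup G :=
    { carrier := {w | w ∈ Q ∧ (∀ q ∈ Q, Commute w q) ∧ w ^ 2 = 1}
      one_mem' := ⟨Q.one_mem, fun q _ => Commute.one_left q, one_pow 2⟩
      mul_mem' := fun {a b} ha hb => ⟨Q.mul_mem ha.1 hb.1, fun q hq => (ha.2.1 q hq).mul_left (hb.2.1 q hq),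
        by rw [(ha.2.1 b hb.1).mul_pow, ha.2.2, hb.2.2, mul_one]⟩
      inv_mem' := fun {a} ha => ⟨Q.inv_mem ha.1, fun q hq => (ha.2.1 q hq).inv_left,
        by rw [inv_pow, ha.2.2, inv_one]⟩ }
  have hWQ : W ≤ Q := fun w hw => hw.1
  have hW4 : 4 ≤ Nat.card W := by
    refine Nat.le_of_dvd Nat.card_pos (four_dvd S.hyp (hQ3.anti hWQ) ?_ ?_)
    · intro w hw
      refine ⟨hQI w hw.1, fun q hq => ?_, by rw [conj_pow, hw.2.2]; group⟩
      have := (hw.2.1 _ (hQI.back S.hyp hq)).map (MulAut.conj x).toMonoidHom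
      simpa [mul_assoc] using this
    · have : Nontrivial Q := Finite.one_lt_card_iff_nontrivial.1 (lt_of_lt_of_le (by norm_num) h16)
      have := hQp.center_nontrivial
      obtain ⟨k, hk⟩ := IsPGroup.iff_card.1 (hQp.to_subgroup (center Q))
      have h1 : 2 ∣ Nat.card (center Q) := hk ▸ dvd_pow_self 2 fun e => by
        have := Finite.one_lt_card (α := center Q)
        rw [hk, e] at this
        simp at this
      obtain ⟨z, hz⟩ := exists_prime_orderOf_dvd_card' 2 h1
      have hzo : orderOf ((z : Q) : G) = 2 := by rw [Subgroup.orderOf_coe, Subgroup.orderOf_coe, hz]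
      have hzW : ((z : Q) : G) ∈ W := ⟨(z : Q).2, fun q hq =>
        (congrArg Subtype.val (mem_center_iff.1 z.2 ⟨q, hq⟩)).symm, by rw [← hzo]; exact pow_orderOf_eq_one _⟩
      exact hzo ▸ Subgroup.orderOf_dvd_natCard W hzW
  have hnoWV : ¬ (∀ w ∈ W, ∀ v ∈ V, Commute w v) ∨ ¬ V ≤ Q := by
    by_contra! hh
    obtain ⟨hc, hVQ⟩ := hh
    have hWV : W ≤ V := fun w hw => hM.self_cent S hTp hVT (hQT hw.1) (hc w hw)
    have heq := Subgroup.eq_of_le_of_card_ge hWV (by rw [hV4]; exact hW4)
    have : Q ≤ V := fun q hq => hM.self_cent S hTp hVT (hQT hq) fun v hv =>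
      ((show v ∈ W from heq ▸ hv).2.1 q hq).symm
    have := card_le_of_le this
    omega
  have hVQ : ¬ V ≤ Q := fun h => hnoWV.elim (fun h1 => h1 fun w hw v hv => hw.2.1 v (h hv)) fun h1 => h1 h
  obtain ⟨v, hvV, hvQ⟩ := SetLike.not_le_iff_exists.1 hVQ
  have : Nontrivial (T : Subgroup G) := ⟨⟨⟨v, hVT hvV⟩, 1, fun e =>
    hvQ (by rw [show v = (1 : G) from congrArg Subtype.val e]; exact Q.one_mem)⟩⟩
  have := hTp.center_nontrivial
  obtain ⟨⟨⟨z, hzT⟩, hzc⟩, hz1⟩ := exists_ne (1 : center (T : Subgroup G))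
  have hz1' : z ≠ 1 := fun e => hz1 (Subtype.ext (Subtype.ext e))
  have hzcomm : ∀ a ∈ (T : Subgroup G), Commute z a := fun a ha =>
    (congrArg Subtype.val (mem_center_iff.1 hzc ⟨a, ha⟩)).symm
  have hzV : z ∈ V := hM.self_cent S hTp hVT hzT fun w hw => hzcomm w (hVT hw)
  have hzQ : z ∈ Q := by
    by_contra hzQ
    have hc : ∀ w ∈ W, ∀ a ∈ V, Commute w a := by
      intro w hw a ha
      by_cases haQ : a ∈ Q
      · exact hw.2.1 a haQ
      have h1 : Commute w (z * a) := hw.2.1 _ (hidx z hzT a (hVT ha) hzQ haQ)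
      have h2 : Commute w z := (hzcomm w (hQT hw.1)).symm
      have := h2.inv_right.mul_right h1
      rwa [inv_mul_cancel_left] at this
    have hWV : W ≤ V := fun w hw => hM.self_cent S hTp hVT (hQT hw.1) (hc w hw)
    exact hVQ (Subgroup.eq_of_le_of_card_ge hWV (by rw [hV4]; exact hW4) ▸ hWQ)
  have hF : Nat.card (V ⊓ Q : Subgroup G) ≤ 2 := by
    have h1 : Nat.card (V ⊓ Q : Subgroup G) ∣ 4 := hV4 ▸ card_dvd_of_le inf_le_left
    have h2 : Nat.card (V ⊓ Q : Subgroup G) ≠ 4 := fun e => hvQ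
      (Subgroup.eq_of_le_of_card_ge (inf_le_left : V ⊓ Q ≤ V) (by rw [e, hV4]) |>.symm ▸ hvV : v ∈ V ⊓ Q).2
    have h3 := Nat.le_of_dvd (by norm_num) h1
    interval_cases Nat.card (V ⊓ Q : Subgroup G) <;> omega
  have hVgen : ∀ a ∈ V, a ∈ zpowers z ⊔ zpowers v := by
    have hle : zpowers z ⊔ zpowers v ≤ V := sup_le (zpowers_le.2 hzV) (zpowers_le.2 hvV)
    have h1 : Nat.card (zpowers z ⊔ zpowers v : Subgroup G) ∣ 4 := hV4 ▸ card_dvd_of_le hle
    have h2 : 1 < Nat.card (zpowers z) := by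
      rw [Nat.card_zpowers]
      exact lt_of_le_of_ne (orderOf_pos z) fun e => hz1' (orderOf_eq_one_iff.1 e.symm)
    have h3 : Nat.card (zpowers z) < Nat.card (zpowers z ⊔ zpowers v : Subgroup G) :=
      lt_of_le_of_ne (card_le_of_le le_sup_left) fun e => hvQ ((zpowers_le.2 hzQ)
        ((Subgroup.eq_of_le_of_card_ge le_sup_left e.ge).symm ▸ mem_sup_right (mem_zpowers v)))
    have h4 := Nat.le_of_dvd (by norm_num) h1
    have h5 : Nat.card (zpowers z ⊔ zpowers v : Subgroup G) = 4 := by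
      interval_cases Nat.card (zpowers z ⊔ zpowers v : Subgroup G) <;> omega
    intro a ha
    rwa [Subgroup.eq_of_le_of_card_ge hle (by rw [h5, hV4])]
  have hCF : ∀ q ∈ Q, Commute q v → q ∈ V ⊓ Q := fun q hq hqv => by
    refine ⟨hM.self_cent S hTp hVT (hQT hq) fun a ha => ?_, hq⟩
    have h1 : zpowers z ⊔ zpowers v ≤ centralizer {q} := sup_le
      (zpowers_le.2 (mem_centralizer_singleton_iff.2 (hzcomm q (hQT hq)).eq))
      (zpowers_le.2 (mem_centralizer_singleton_iff.2 hqv.eq.symm))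
    exact (mem_centralizer_singleton_iff.1 (h1 (hVgen a ha))).symm
  have hvv : v * v = 1 := by
    obtain ⟨a, ha, rfl⟩ := hvV
    rw [← map_mul, ← pow_two, hM.sq S ha, map_one]
  have hvN : ∀ q ∈ Q, v * q * v ∈ Q := fun q hq => by
    have := ((mem_set_normalizer_iff.1 (hTn (hVT hvV))) q).1 hq
    rwa [inv_eq_of_mul_eq_one_left hvv] at this
  have hWv : ∀ w ∈ W, v * w * v ∈ W := fun w hw => by
    refine ⟨hvN w hw.1, fun q hq => ?_, ?_⟩
    · have := (hw.2.1 _ (hvN q hq)).map (MulAut.conj v).toMonoidHom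
      simpa [mul_assoc, inv_eq_of_mul_eq_one_left hvv, hvv, ← mul_assoc v v] using this
    · have hv' := inv_eq_of_mul_eq_one_left hvv
      calc (v * w * v) ^ 2 = (v * w * v⁻¹) ^ 2 := by rw [hv']
        _ = 1 := by rw [conj_pow, hw.2.2]; group
  let E : Subgroup G :=
    { carrier := {q | q ∈ Q ∧ q⁻¹ * (v * q * v) ∈ W}
      one_mem' := ⟨Q.one_mem, by
        rw [inv_one, one_mul, mul_one, hvv]; exact W.one_mem⟩
      mul_mem' := fun {a b} ha hb => ⟨Q.mul_mem ha.1 hb.1, by
        have h1 : Commute (a⁻¹ * (v * a * v)) b⁻¹ := (ha.2.2.1 _ hb.1).inv_right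
        have h2 := W.mul_mem ha.2 hb.2
        rwa [show a⁻¹ * (v * a * v) * (b⁻¹ * (v * b * v)) = (a * b)⁻¹ * (v * (a * b) * v) by
          rw [← mul_assoc, h1.eq]
          calc b⁻¹ * (a⁻¹ * (v * a * v)) * (v * b * v) = b⁻¹ * a⁻¹ * v * a * (v * v) * b * v := by group
            _ = _ := by rw [hvv]; group] at h2⟩
      inv_mem' := fun {a} ha => ⟨Q.inv_mem ha.1, by
        have h2 := W.inv_mem ha.2
        have h1 : Commute (a⁻¹ * (v * a * v))⁻¹ a⁻¹ := ((ha.2.2.1 _ ha.1).inv_left).inv_right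
        rwa [show (a⁻¹ * (v * a * v))⁻¹ = a⁻¹⁻¹ * (v * a⁻¹ * v) by
          calc (a⁻¹ * (v * a * v))⁻¹ = a * ((a⁻¹ * (v * a * v))⁻¹ * a⁻¹) := by rw [h1.eq]; group
            _ = a * (v⁻¹ * a⁻¹ * v⁻¹) := by group
            _ = _ := by rw [inv_inv, inv_eq_of_mul_eq_one_left hvv]] at h2⟩ }
  let d : E →* W :=
    MonoidHom.mk' (fun q => ⟨(q : G)⁻¹ * (v * q * v), q.2.2⟩) fun a b => Subtype.ext (by
      have h1 : Commute ((a : G)⁻¹ * (v * a * v)) (b : G)⁻¹ := (a.2.2.2.1 _ b.2.1).inv_right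
      show ((a : G) * b)⁻¹ * (v * (a * b) * v) = (a : G)⁻¹ * (v * a * v) * ((b : G)⁻¹ * (v * b * v))
      rw [← mul_assoc ((a : G)⁻¹ * (v * a * v)), h1.eq]
      calc ((a : G) * b)⁻¹ * (v * (a * b) * v) = (b : G)⁻¹ * (a : G)⁻¹ * v * a * 1 * b * v := by group
        _ = _ := by rw [← hvv]; group)
  have hE4 : Nat.card E ≤ 4 := by
    have hr : Nat.card d.range ≤ 2 := by
      refine le_trans ?_ hF
      refine Nat.card_le_card_of_injective (fun w => (⟨(w.1 : G), ?_⟩ : (V ⊓ Q : Subgroup G)))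
        fun a b e => Subtype.ext (Subtype.ext (congrArg (fun u : (V ⊓ Q : Subgroup G) => (u : G)) e))
      obtain ⟨q, hq⟩ := w.2
      have hval : ((w.1 : W) : G) = (q : G)⁻¹ * (v * q * v) := (congrArg Subtype.val hq).symm
      refine hCF _ w.1.2.1 ?_
      rw [hval]
      show (q : G)⁻¹ * (v * q * v) * v = v * ((q : G)⁻¹ * (v * q * v))
      have h3 : ((q : G)⁻¹ * (v * q * v))⁻¹ = (q : G)⁻¹ * (v * q * v) := by
        rw [← hval]; exact inv_eq_of_mul_eq_one_left (by rw [← pow_two]; exact w.1.2.2.2)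
      conv_rhs => rw [← h3]
      rw [mul_inv_rev, mul_inv_rev, mul_inv_rev, inv_inv, inv_eq_of_mul_eq_one_left hvv]
      simp [← mul_assoc, hvv]
      simp [mul_assoc, hvv]
    have hk : Nat.card d.ker ≤ 2 := by
      refine le_trans ?_ hF
      refine Nat.card_le_card_of_injective (fun q => (⟨(q.1 : G), ?_⟩ : (V ⊓ Q : Subgroup G)))
        fun a b e => Subtype.ext (Subtype.ext (congrArg (fun u : (V ⊓ Q : Subgroup G) => (u : G)) e))
      refine hCF _ q.1.2.1 ?_
      have h1 : (q.1 : G)⁻¹ * (v * q.1 * v) = 1 := congrArg Subtype.val (MonoidHom.mem_ker.1 q.2)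
      rw [inv_mul_eq_one] at h1
      show (q.1 : G) * v = v * q.1
      conv_lhs => rw [h1]
      rw [mul_assoc, hvv, mul_one]
    rw [← d.ker.card_mul_index, index_ker]
    exact (Nat.mul_le_mul hk hr).trans le_rfl
  have hWE : W ≤ E := fun w hw => ⟨hw.1, W.mul_mem (W.inv_mem hw) (hWv w hw)⟩
  have heq : W = E := Subgroup.eq_of_le_of_card_ge hWE (le_trans hE4 hW4)
  -- the action of `v` on the quotient
  set W' := W.subgroupOf Q with hW'
  have hW'n : W'.Normal := ⟨fun w hw q => by
    rw [mem_subgroupOf] at hw ⊢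
    rw [Subgroup.coe_mul, Subgroup.coe_mul, Subgroup.coe_inv, (hw.2.1 q q.2).symm.eq, mul_inv_cancel_right]
    exact hw⟩
  let c : Q →* Q := MonoidHom.mk' (fun q => ⟨v * q * v, hvN q q.2⟩) fun a b => Subtype.ext (by
    show v * ((a : G) * b) * v = v * a * v * (v * b * v)
    calc v * ((a : G) * b) * v = v * a * 1 * b * v := by group
      _ = _ := by rw [← hvv]; group)
  let σ : Q ⧸ W' →* Q ⧸ W' := QuotientGroup.map W' W' c fun w hw => hWv _ hw
  let f : Function.End (Q ⧸ W') := fun a => σ a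
  have hf : f ^ 2 ^ 1 = 1 := by
    funext a
    obtain ⟨q, rfl⟩ := QuotientGroup.mk'_surjective W' a
    show σ (σ (QuotientGroup.mk' W' q)) = QuotientGroup.mk' W' q
    simp only [σ, QuotientGroup.mk'_apply, QuotientGroup.map_mk]
    refine congrArg _ (Subtype.ext ?_)
    show v * (v * (q : G) * v) * v = q
    calc v * (v * (q : G) * v) * v = (v * v) * q * (v * v) := by group
      _ = q := by rw [hvv]; group
  classical
  have := Fintype.ofFinite (Q ⧸ W')
  have hfix : Fintype.card (Function.fixedPoints f) = 1 := by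
    have h2 : ∀ a, a ∈ Function.fixedPoints f ↔ a = 1 := by
      intro a
      obtain ⟨q, rfl⟩ := QuotientGroup.mk'_surjective W' a
      refine ⟨fun ha => ?_, fun ha => by rw [ha]; exact map_one σ⟩
      have h1 : σ (QuotientGroup.mk' W' q) = QuotientGroup.mk' W' q := ha
      simp only [σ, QuotientGroup.mk'_apply, QuotientGroup.map_mk] at h1
      have h1 : QuotientGroup.mk (s := W') q = QuotientGroup.mk (c q) := h1.symm
      rw [QuotientGroup.eq] at h1
      rw [QuotientGroup.mk'_apply, QuotientGroup.eq_one_iff, mem_subgroupOf, heq]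
      exact ⟨q.2, h1⟩
    exact Fintype.card_eq_one_iff.2 ⟨⟨1, (h2 1).2 rfl⟩, fun r => Subtype.ext ((h2 r.1).1 r.2)⟩
  have hmod := Equiv.Perm.card_fixedPoints_modEq (p := 2) (n := 1) hf
  rw [hfix, ← Nat.card_eq_fintype_card, ← index_eq_card] at hmod
  obtain ⟨k, hk⟩ := IsPGroup.iff_card.1 hQp
  obtain ⟨j, hj, hjk⟩ := (Nat.dvd_prime_pow Nat.prime_two).1 (hk ▸ W'.index_dvd_card)
  have h1 := W'.index_mul_card
  rw [Nat.card_congr (subgroupOfEquivOfLe hWQ).toEquiv, heq, hjk] at h1
  rcases Nat.eq_zero_or_pos j with e | e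
  · rw [e, pow_zero, one_mul] at h1; omega
  · rw [hjk] at hmod
    have h2 : 2 ∣ 2 ^ j := dvd_pow_self 2 e.ne'
    unfold Nat.ModEq at hmod
    omega

/-- At most three small two-parts, up to conjugation. -/
theorem Small.card_le {R : Finset (Subgroup G)} (hR : ∀ M ∈ R, Small x t M)
    (hd : ∀ M ∈ R, ∀ M' ∈ R, M' = cj t M → M' = M) : R.card ≤ 3 := by
  classical
  rcases R.eq_empty_or_nonempty with rfl | ⟨M₀, hM₀⟩
  · simp
  have : Fact (Nat.Prime 2) := ⟨Nat.prime_two⟩
  obtain ⟨T⟩ : Nonempty (Sylow 2 G) := inferInstance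
  have hTp : IsPGroup 2 (T : Subgroup G) := T.isPGroup'
  have h8 : 8 ∣ Nat.card (T : Subgroup G) :=
    T.pow_dvd_card_of_pow_dvd_card (n := 3) ((hR _ hM₀).eight S)
  have : Nontrivial (T : Subgroup G) := Finite.one_lt_card_iff_nontrivial.1
    (lt_of_lt_of_le (by norm_num) (Nat.le_of_dvd Nat.card_pos h8))
  have := hTp.center_nontrivial
  obtain ⟨⟨⟨z, hzT⟩, hzc⟩, hz1⟩ := exists_ne (1 : center (T : Subgroup G))
  have hz1' : z ≠ 1 := fun e => hz1 (Subtype.ext (Subtype.ext e))
  have hzcomm : ∀ a ∈ (T : Subgroup G), Commute z a := fun a ha =>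
    (congrArg Subtype.val (mem_center_iff.1 hzc ⟨a, ha⟩)).symm
  have hdata : ∀ M : R, ∃ g : G, ∃ v : (T : Subgroup G), cj g (pc 2 M.1) ≤ (T : Subgroup G) ∧
      cj g (pc 2 M.1) = zpowers z ⊔ zpowers (v : G) ∧
      Abelianization.of v ≠ 1 ∧
      ∀ w : (T : Subgroup G), Abelianization.of w = Abelianization.of v → IsConj v w := by
    intro M
    have hM := hR M.1 M.2
    obtain ⟨P, hP⟩ := ((hM.max.two_card S (hM.two_dvd S)).1).exists_le_sylow
    obtain ⟨g, hg⟩ := MulAction.exists_smul_eq G P T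
    set V := cj g (pc 2 M.1) with hVdef
    have hVT : V ≤ (T : Subgroup G) := by rw [← hg]; exact map_mono hP
    have hV4 : Nat.card V = 4 := by rw [hVdef, card_cj, hM.card]
    have hzV : z ∈ V := hM.self_cent S hTp hVT hzT fun w hw => hzcomm w (hVT hw)
    obtain ⟨v, hvV, hvz⟩ : ∃ v ∈ V, v ∉ zpowers z := by
      refine SetLike.not_le_iff_exists.1 fun hle => ?_
      have h1 := card_le_of_le hle
      have h2 : z ^ 2 = 1 := by
        obtain ⟨a, ha, rfl⟩ := hzV
        rw [← map_pow, hM.sq S ha, map_one]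
      rw [hV4, Nat.card_zpowers, orderOf_eq_prime h2 hz1'] at h1
      omega
    have hgen : V = zpowers z ⊔ zpowers v := by
      have hle : zpowers z ⊔ zpowers v ≤ V := sup_le (zpowers_le.2 hzV) (zpowers_le.2 hvV)
      have h1 : Nat.card (zpowers z ⊔ zpowers v : Subgroup G) ∣ 4 := hV4 ▸ card_dvd_of_le hle
      have h2 : 1 < Nat.card (zpowers z) := by
        rw [Nat.card_zpowers]
        exact lt_of_le_of_ne (orderOf_pos z) fun e => hz1' (orderOf_eq_one_iff.1 e.symm)
      have h3 : Nat.card (zpowers z) < Nat.card (zpowers z ⊔ zpowers v : Subgroup G) :=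
        lt_of_le_of_ne (card_le_of_le le_sup_left) fun e => hvz
          ((Subgroup.eq_of_le_of_card_ge le_sup_left e.ge).symm ▸ mem_sup_right (mem_zpowers v))
      have h4 := Nat.le_of_dvd (by norm_num) h1
      have h5 : Nat.card (zpowers z ⊔ zpowers v : Subgroup G) = 4 := by
        interval_cases Nat.card (zpowers z ⊔ zpowers v : Subgroup G) <;> omega
      exact (Subgroup.eq_of_le_of_card_ge hle (by rw [h5, hV4])).symm
    set v' : (T : Subgroup G) := ⟨v, hVT hvV⟩ with hv'
    refine ⟨g, v', hVT, hgen, ?_⟩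
    have hcentle : Nat.card (centralizer ({v'} : Set (T : Subgroup G))) ≤ 4 := by
      rw [← hV4]
      refine Nat.card_le_card_of_injective (fun w => (⟨(w.1 : G), ?_⟩ : V))
        fun a b e => Subtype.ext (Subtype.ext (congrArg (fun u : V => (u : G)) e))
      refine hM.self_cent S hTp hVT w.1.2 fun a ha => ?_
      have h1 : zpowers z ⊔ zpowers v ≤ centralizer {(w.1 : G)} := sup_le
        (zpowers_le.2 (mem_centralizer_singleton_iff.2 (hzcomm _ w.1.2).eq))
        (zpowers_le.2 (mem_centralizer_singleton_iff.2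
          (congrArg Subtype.val (mem_centralizer_singleton_iff.1 w.2)).symm))
      rw [hgen] at hVdef
      exact (mem_centralizer_singleton_iff.1 (h1 (hgen ▸ ha))).symm
    have hnc : ¬ ∀ a b : (T : Subgroup G), a * b = b * a := fun hall => by
      have : (T : Subgroup G) ≤ V := fun a ha => hM.self_cent S hTp hVT ha fun w hw =>
        congrArg Subtype.val (hall ⟨a, ha⟩ ⟨w, hVT hw⟩)
      have := (Nat.le_of_dvd Nat.card_pos h8).trans (card_le_of_le this)
      omega
    have hidx := four_le_index_commutator hTp hnc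
    let F : {w : (T : Subgroup G) // IsConj v' w} → commutator (T : Subgroup G) := fun w =>
      ⟨v'⁻¹ * w.1, by
        obtain ⟨c, hc⟩ := isConj_iff.1 w.2
        rw [← hc, commutator_def, show v'⁻¹ * (c * v' * c⁻¹) = ⁅v'⁻¹, c⁆ by
          rw [commutatorElement_def, inv_inv]; group]
        exact commutator_mem_commutator (mem_top _) (mem_top _)⟩
    have hFi : Function.Injective F := fun a b e =>
      Subtype.ext (mul_left_cancel (congrArg Subtype.val e))
    have hcount := Cfsg.Lib.Chars.card_isConj_mul v'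
    have hFs : Function.Surjective F := by
      refine Function.Bijective.surjective ((Nat.bijective_iff_injective_and_card F).2 ⟨hFi, ?_⟩)
      refine le_antisymm (Nat.card_le_card_of_injective F hFi) ?_
      rw [← (commutator (T : Subgroup G)).card_mul_index] at hcount
      by_contra! hlt
      have h1 := Nat.mul_le_mul_left (Nat.card (commutator (T : Subgroup G))) hidx
      have h2 : Nat.card {w : (T : Subgroup G) // IsConj v' w} * Nat.card (centralizer ({v'} : Set (T : Subgroup G))) <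
          Nat.card (commutator (T : Subgroup G)) * 4 :=
        lt_of_le_of_lt (Nat.mul_le_mul_left _ hcentle) (Nat.mul_lt_mul_of_pos_right hlt (by norm_num))
      omega
    have hsurj : ∀ w, Abelianization.of w = Abelianization.of v' → IsConj v' w := by
      intro w hw
      have hmem : v'⁻¹ * w ∈ commutator (T : Subgroup G) := by
        rw [← Abelianization.ker_of, MonoidHom.mem_ker, map_mul, map_inv, hw, inv_mul_cancel]
      obtain ⟨w', he⟩ := hFs ⟨_, hmem⟩
      rw [← show w'.1 = w from mul_left_cancel (congrArg Subtype.val he)]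
      exact w'.2
    refine ⟨fun h1 => ?_, hsurj⟩
    have h2 := hsurj 1 (by rw [h1, map_one])
    rw [isConj_comm, isConj_one_right] at h2
    exact hvz (by rw [show v = 1 from congrArg Subtype.val h2]; exact one_mem _)
  choose g v hgT hgen hv1 hconj using hdata
  -- index four
  have hidx4 : Nat.card {a : Abelianization (T : Subgroup G) // a ≠ 1} ≤ 3 := by
    obtain ⟨M, hM⟩ : ∃ M : R, True := ⟨⟨M₀, hM₀⟩, trivial⟩
    have hM' := hR M.1 M.2
    have h1 : Nat.card {w : (T : Subgroup G) // IsConj (v M) w} ≤ Nat.card (commutator (T : Subgroup G)) := by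
      refine Nat.card_le_card_of_injective (fun w => (⟨(v M)⁻¹ * w.1, ?_⟩ : commutator (T : Subgroup G)))
        fun a b e => Subtype.ext (mul_left_cancel (congrArg Subtype.val e))
      obtain ⟨c, hc⟩ := isConj_iff.1 w.2
      rw [← hc, commutator_def, show (v M)⁻¹ * (c * v M * c⁻¹) = ⁅(v M)⁻¹, c⁆ by
        rw [commutatorElement_def, inv_inv]; group]
      exact commutator_mem_commutator (mem_top _) (mem_top _)
    have h3 := Cfsg.Lib.Chars.card_isConj_mul (v M)
    rw [← (commutator (T : Subgroup G)).card_mul_index] at h3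
    -- exactly four
    have h5 : Nat.card (centralizer ({v M} : Set (T : Subgroup G))) ≤ 4 := by
      rw [show (4 : ℕ) = Nat.card (cj (g M) (pc 2 M.1)) by rw [card_cj, hM'.card]]
      refine Nat.card_le_card_of_injective (fun w => (⟨((w.1 : (T : Subgroup G)) : G), ?_⟩ : cj (g M) (pc 2 M.1)))
        fun a b e => Subtype.ext (Subtype.ext (congrArg (fun u : cj (g M) (pc 2 M.1) => (u : G)) e))
      refine hM'.self_cent S hTp (hgT M) w.1.2 fun a ha => ?_
      have h6 : zpowers z ⊔ zpowers (v M : G) ≤ centralizer {((w.1 : (T : Subgroup G)) : G)} := sup_le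
        (zpowers_le.2 (mem_centralizer_singleton_iff.2 (hzcomm _ w.1.2).eq))
        (zpowers_le.2 (mem_centralizer_singleton_iff.2
          (congrArg Subtype.val (mem_centralizer_singleton_iff.1 w.2)).symm))
      rw [hgen M] at ha
      exact (mem_centralizer_singleton_iff.1 (h6 ha)).symm
    have h8 : (commutator (T : Subgroup G)).index ≤ 4 := by
      refine Nat.le_of_mul_le_mul_left ?_ (Nat.card_pos (α := commutator (T : Subgroup G)))
      rw [← h3]
      exact Nat.mul_le_mul h1 h5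
    have h7 : Nat.card (Abelianization (T : Subgroup G)) = (commutator (T : Subgroup G)).index :=
      (index_eq_card _).symm
    have := Fintype.ofFinite (Abelianization (T : Subgroup G))
    rw [Nat.card_eq_fintype_card, Fintype.card_subtype_compl, Fintype.card_subtype_eq,
      ← Nat.card_eq_fintype_card, h7]
    omega
  let f : R → {a : Abelianization (T : Subgroup G) // a ≠ 1} := fun M => ⟨Abelianization.of (v M), hv1 M⟩
  have hfi : Function.Injective f := by
    intro M M' e
    have hc := hconj M (v M') (congrArg Subtype.val e).symm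
    obtain ⟨a, ha⟩ := isConj_iff.1 hc
    have ha' : (a : G) * (v M : G) * (a : G)⁻¹ = (v M' : G) := congrArg Subtype.val ha
    have h1 : cj ((g M')⁻¹ * (a * g M)) (pc 2 M.1) = pc 2 M'.1 := by
      have h2 : cj (a : G) (zpowers z ⊔ zpowers (v M : G)) = zpowers z ⊔ zpowers (v M' : G) := by
        rw [cj, Subgroup.map_sup, MonoidHom.map_zpowers, MonoidHom.map_zpowers]
        simp only [MulEquiv.toMonoidHom_eq_coe, MonoidHom.coe_coe, MulAut.conj_apply]
        rw [ha', (hzcomm a a.2).symm.eq, mul_inv_cancel_right]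
      rw [← cj_cj, ← cj_cj, hgen M, h2, ← hgen M', cj_inv_cj]
    rcases (hR M.1 M.2).max.share S (hR M'.1 M'.2).max ((hR M'.1 M'.2).two_dvd S) h1 with e' | e'
    · exact Subtype.ext e'.symm
    · exact Subtype.ext (hd M.1 M.2 M'.1 M'.2 e').symm
  have := (Nat.card_le_card_of_injective f hfi).trans hidx4
  simpa using this

end Cfsg.Lib.SelfCentThree
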