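import Cfsg.Agent.SelfCentThree.Local

/-!
Groups with a self-centralising subgroup of order three: the two-parts of the maximal invariant
subgroups.
-/

set_option linter.unusedSectionVars false

namespace Cfsg.Lib.SelfCentThree

open Subgroup
open scoped Pointwise

universe u

variable {G : Type u} [Group G] {x t : G}

/-- The abelian subgroups of greatest order generate `JA T`. -/
def JA (T : Subgroup G) : Subgroup G :=
  sSup {A | A ≤ T ∧ (∀ a ∈ A, ∀ b ∈ A, Commute a b) ∧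
    ∀ B : Subgroup G, B ≤ T → (∀ a ∈ B, ∀ b ∈ B, Commute a b) → Nat.card B ≤ Nat.card A}

theorem JA_le (T : Subgroup G) : JA T ≤ T := sSup_le fun _ h => h.1

theorem cj_comm {g : G} {A : Subgroup G} (h : ∀ a ∈ A, ∀ b ∈ A, Commute a b) :
    ∀ a ∈ cj g A, ∀ b ∈ cj g A, Commute a b := by
  rintro - ⟨a, ha, rfl⟩ - ⟨b, hb, rfl⟩
  exact (h a ha b hb).map _

theorem cj_JA_le (g : G) (T : Subgroup G) : cj g (JA T) ≤ JA (cj g T) := by
  rw [cj, map_le_iff_le_comap]
  refine sSup_le fun A hA => map_le_iff_le_comap.1 (le_sSup ⟨map_mono hA.1, cj_comm hA.2.1, fun B hB hBc => ?_⟩)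
  have := hA.2.2 (cj g⁻¹ B) (cj_inv_cj g T ▸ cj_mono _ hB) (cj_comm hBc)
  rwa [card_cj, ← card_cj g A] at this

theorem cj_JA (g : G) (T : Subgroup G) : cj g (JA T) = JA (cj g T) := by
  refine le_antisymm (cj_JA_le g T) ?_
  have h1 := cj_mono g (cj_JA_le g⁻¹ (cj g T))
  rwa [cj_cj, mul_inv_cancel, cj_one, cj_inv_cj] at h1

theorem normalizer_le_JA (T : Subgroup G) :
    normalizer (T : Set G) ≤ normalizer (JA T : Set G) := by
  intro g hg
  have e : ∀ g ∈ normalizer (T : Set G), cj g (JA T) = JA T := fun g hg => by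
    rw [cj_JA, cj_eq_self hg]
  rw [mem_set_normalizer_iff]
  intro b
  refine ⟨fun hb => e g hg ▸ conj_mem_cj g hb, fun hb => ?_⟩
  have := conj_mem_cj g⁻¹ hb
  rw [e g⁻¹ (inv_mem hg)] at this
  rwa [show g⁻¹ * (g * b * g⁻¹) * g⁻¹⁻¹ = b by group] at this

theorem sup_comm_commute {A B : Subgroup G} (hA : ∀ a ∈ A, ∀ b ∈ A, Commute a b)
    (hB : ∀ a ∈ B, ∀ b ∈ B, Commute a b) (hAB : ∀ a ∈ A, ∀ b ∈ B, Commute a b) :
    ∀ a ∈ A ⊔ B, ∀ b ∈ A ⊔ B, Commute a b := by
  have h1 : A ⊔ B ≤ centralizer (A : Set G) :=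
    sup_le (fun a ha => mem_centralizer_iff.2 fun c hc => (hA c hc a ha).eq)
      (fun b hb => mem_centralizer_iff.2 fun c hc => (hAB c hc b hb).eq)
  have h2 : A ⊔ B ≤ centralizer (B : Set G) :=
    sup_le (fun a ha => mem_centralizer_iff.2 fun c hc => (hAB a ha c hc).eq.symm)
      (fun b hb => mem_centralizer_iff.2 fun c hc => (hB c hc b hb).eq)
  have h3 : A ⊔ B ≤ centralizer ((A ⊔ B : Subgroup G) : Set G) := by
    refine sup_le (fun a ha => mem_centralizer_iff.2 fun c hc => ?_)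
      (fun b hb => mem_centralizer_iff.2 fun c hc => ?_)
    · exact (mem_centralizer_iff.1 (h1 hc) a ha).symm
    · exact (mem_centralizer_iff.1 (h2 hc) b hb).symm
  exact fun a ha b hb => mem_centralizer_iff.1 (h3 hb) a ha

theorem zpowers_commute (a : G) : ∀ b ∈ zpowers a, ∀ c ∈ zpowers a, Commute b c := by
  intro b hb c hc
  obtain ⟨i, rfl⟩ := mem_zpowers_iff.1 hb
  obtain ⟨j, rfl⟩ := mem_zpowers_iff.1 hc
  exact Commute.zpow_zpow_self a i j

variable [Finite G]

theorem exists_JA_max (T : Subgroup G) : ∃ A, A ≤ T ∧ (∀ a ∈ A, ∀ b ∈ A, Commute a b) ∧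
    ∀ B : Subgroup G, B ≤ T → (∀ a ∈ B, ∀ b ∈ B, Commute a b) → Nat.card B ≤ Nat.card A := by
  obtain ⟨A, hA, hmax⟩ := (Set.toFinite {A : Subgroup G | A ≤ T ∧ ∀ a ∈ A, ∀ b ∈ A, Commute a b}).exists_maximalFor
    (fun A : Subgroup G => Nat.card A) _ ⟨⊥, bot_le, fun a ha b hb => by rw [mem_bot.1 ha]; exact Commute.one_left b⟩
  exact ⟨A, hA.1, hA.2, fun B h1 h2 => (le_total (Nat.card B) (Nat.card A)).elim id (hmax ⟨h1, h2⟩)⟩

/-- The abelian subgroups of greatest order of `T` lie in `Q`. -/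
theorem JA_eq_of_max {Q T : Subgroup G} (hQT : Q ≤ T)
    (h : ∀ A ≤ T, (∀ a ∈ A, ∀ b ∈ A, Commute a b) →
      (∀ B : Subgroup G, B ≤ T → (∀ a ∈ B, ∀ b ∈ B, Commute a b) → Nat.card B ≤ Nat.card A) → A ≤ Q) :
    JA T = JA Q := by
  obtain ⟨A, hAT, hAc, hAm⟩ := exists_JA_max T
  have hAQ := h A hAT hAc hAm
  refine le_antisymm (sSup_le fun B hB => le_sSup ?_) (sSup_le fun B hB => le_sSup ?_)
  · exact ⟨h B hB.1 hB.2.1 hB.2.2, hB.2.1, fun C hC hCc => hB.2.2 C (hC.trans hQT) hCc⟩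
  · exact ⟨hB.1.trans hQT, hB.2.1, fun C hC hCc => (hAm C hC hCc).trans (hB.2.2 A hAQ hAc)⟩

variable (S : Setting x t) {M M' : Subgroup G}
include S

/-- The two-part of an invariant subgroup has order four or at least sixteen. -/
theorem Max.two_card (hM : Max x M) (h2 : 2 ∣ Nat.card M) :
    IsPGroup 2 (pc 2 M) ∧ Inv x (pc 2 M) ∧ P3 (pc 2 M) ∧
      (Nat.card (pc 2 M) = 4 ∨ 16 ≤ Nat.card (pc 2 M)) := by
  have := hM.isNilpotent S
  have : Fact (Nat.Prime 2) := ⟨Nat.prime_two⟩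
  have hI := inv_of_mem_normalizer (normalizer_le_pc 2 M (hM.x_mem S))
  have hP := hM.p3.anti (pc_le 2 M)
  refine ⟨pc_data.1, hI, hP, ?_⟩
  have h1 := card_mod_three S.hyp hP hI
  have hpos : 0 < (Nat.card M).factorization 2 :=
    Nat.Prime.factorization_pos_of_dvd Nat.prime_two Nat.card_pos.ne' h2
  rw [pc_data.2] at h1 ⊢
  rcases lt_or_ge ((Nat.card M).factorization 2) 4 with e | e
  · interval_cases (Nat.card M).factorization 2 <;> simp_all
  · exact Or.inr (le_trans (by norm_num) (Nat.pow_le_pow_right (by norm_num) e))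

theorem Max.two_card_not_mem (hM : Max x M) (h2 : 2 ∣ Nat.card M)
    (ht : t ∉ normalizer (M : Set G)) :
    Nat.card (pc 2 M) = 2 ^ (Nat.card G).factorization 2 := by
  have := hM.isNilpotent S
  have : Fact (Nat.Prime 2) := ⟨Nat.prime_two⟩
  rw [pc_data.2]
  congr 1
  refine le_antisymm ((Nat.factorization_le_iff_dvd Nat.card_pos.ne' Nat.card_pos.ne').2
    (card_subgroup_dvd_card M) 2) ?_
  by_contra! hlt
  refine S.sylow_card (T := pc 2 M) pc_data.2 (fun h1 => Nat.pow_succ_factorization_not_dvd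
    (Nat.card_pos (α := M)).ne' Nat.prime_two ?_) ((Nat.prime_two.pow_dvd_iff_le_factorization Nat.card_pos.ne').2 hlt)
  have h3 := h1.trans (card_dvd_of_le (hM.pc_normalizer S h2))
  rw [(hM.card_normalizer S).2 ht] at h3
  exact (Nat.Coprime.pow_left _ (show (2 : ℕ).Coprime 3 by norm_num)).dvd_of_dvd_mul_left h3

/-- The Sylow subgroup of `N(M)` when `t` normalises `M`. -/
theorem Max.t_sup (hM : Max x M) (h2 : 2 ∣ Nat.card M) (ht : t ∈ normalizer (M : Set G)) :
    let Q := pc 2 M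
    IsPGroup 2 (Q ⊔ zpowers t : Subgroup G) ∧ Nat.card (Q ⊔ zpowers t : Subgroup G) = 2 * Nat.card Q ∧
      (∀ a ∈ Q ⊔ zpowers t, a ∈ Q ∨ t * a ∈ Q) ∧ t ∈ normalizer (Q : Set G) ∧ t ∉ Q := by
  intro Q
  obtain ⟨hQp, -, -, -⟩ := hM.two_card S h2
  have htQ : t ∈ normalizer (Q : Set G) := normalizer_le_pc 2 M ht
  have htn : t ∉ Q := fun h => hM.t_not_mem S (pc_le 2 M h)
  have h1 : ∀ a ∈ Q ⊔ zpowers t, a ∈ Q ∨ t * a ∈ Q := by
    intro a ha
    rw [← SetLike.mem_coe, coe_mul_of_right_le_normalizer_left Q (zpowers t) (zpowers_le.2 htQ)] at ha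
    obtain ⟨b, hb, c, hc, rfl⟩ := Set.mem_mul.1 ha
    obtain ⟨k, rfl⟩ := mem_zpowers_iff.1 hc
    rw [← zpow_mod_orderOf, S.inverts.orderOf_eq S.hyp]
    rcases (by omega : k % ((2 : ℕ) : ℤ) = 0 ∨ k % ((2 : ℕ) : ℤ) = 1) with e | e <;> rw [e]
    · exact Or.inl (by simpa using hb)
    · refine Or.inr ?_
      have := ((mem_set_normalizer_iff.1 htQ) b).1 hb
      rw [zpow_one]
      rwa [S.inverts.inv_eq, mul_assoc] at this
  have hcard : Nat.card (Q ⊔ zpowers t : Subgroup G) = 2 * Nat.card Q := by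
    rw [← relIndex_mul_index_aux (Q := Q) (T := Q ⊔ zpowers t) le_sup_left]
    congr 1
    exact index_eq_two_iff.2 ⟨⟨t, mem_sup_right (mem_zpowers t)⟩, fun b => by
      simp only [Xor', mem_subgroupOf, Subgroup.coe_mul]
      rcases h1 b b.2 with e | e
      · refine Or.inr ⟨e, fun hb => htn ?_⟩
        exact (Q.mul_mem_cancel_left e).1 hb
      · have hb' : (b : G) * t ∈ Q := by
          have := ((mem_set_normalizer_iff.1 htQ) _).1 e
          rwa [show t * (t * (b : G)) * t⁻¹ = b * t by rw [← mul_assoc, S.inverts.sq, one_mul, S.inverts.inv_eq]] at this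
        exact Or.inl ⟨hb', fun hb => htn ((Q.mul_mem_cancel_left hb).1 hb')⟩⟩
  refine ⟨?_, hcard, h1, htQ, htn⟩
  have : Fact (Nat.Prime 2) := ⟨Nat.prime_two⟩
  obtain ⟨k, hk⟩ := IsPGroup.iff_card.1 hQp
  exact IsPGroup.of_card (n := k + 1) (by rw [hcard, hk, pow_succ, mul_comm])
where
  relIndex_mul_index_aux {G : Type u} [Group G] {Q T : Subgroup G} (h : Q ≤ T) :
      (Q.subgroupOf T).index * Nat.card Q = Nat.card T := by
    rw [← (Q.subgroupOf T).index_mul_card, Nat.card_congr (subgroupOfEquivOfLe h).toEquiv]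

/-- The Thompson subgroup of a big two-part. -/
theorem Max.big_data (hM : Max x M) (h2 : 2 ∣ Nat.card M) (ht : t ∈ normalizer (M : Set G))
    (h16 : 16 ≤ Nat.card (pc 2 M)) :
    JA (pc 2 M ⊔ zpowers t) = JA (pc 2 M) ∧
      normalizer (JA (pc 2 M) : Set G) ≤ normalizer (M : Set G) ∧
      Nat.card (pc 2 M ⊔ zpowers t : Subgroup G) = 2 ^ (Nat.card G).factorization 2 := by
  set Q := pc 2 M with hQdef
  obtain ⟨hQp, hQI, hQ3, -⟩ := hM.two_card S h2
  obtain ⟨hTp, hTc, hmem, htQ, -⟩ := hM.t_sup S h2 ht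
  have : Fact (Nat.Prime 2) := ⟨Nat.prime_two⟩
  have hntQ : Nontrivial Q := Finite.one_lt_card_iff_nontrivial.1 (lt_of_lt_of_le (by norm_num) h16)
  -- an abelian subgroup of order above four
  obtain ⟨B₀, hB₀, hB₀c, hB₀4⟩ : ∃ B₀ : Subgroup G, B₀ ≤ Q ∧ (∀ a ∈ B₀, ∀ b ∈ B₀, Commute a b) ∧
      4 < Nat.card B₀ := by
    set Z := (center Q).map Q.subtype with hZ
    have hZQ : Z ≤ Q := map_subtype_le _
    have hZc : ∀ a ∈ Z, ∀ b ∈ Q, Commute a b := by
      rintro - ⟨a, ha, rfl⟩ b hb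
      exact (congrArg Subtype.val (mem_center_iff.1 ha ⟨b, hb⟩)).symm
    have hZI : Inv x Z := by
      rintro - ⟨a, ha, rfl⟩
      refine ⟨⟨_, hQI a a.2⟩, mem_center_iff.2 fun b => Subtype.ext ?_, rfl⟩
      have h1 : Commute (a : G) (x⁻¹ * b * x) := hZc _ ⟨a, ha, rfl⟩ _ (hQI.back S.hyp b.2)
      have h2 := (h1.map (MulAut.conj x).toMonoidHom).symm
      simpa [mul_assoc] using h2.eq
    have := hQp.center_nontrivial
    have hZ1 : 1 < Nat.card Z := by
      rw [hZ, ← Nat.card_congr ((center Q).equivMapOfInjective _ Q.subtype_injective).toEquiv]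
      exact Finite.one_lt_card_iff_nontrivial.2 this
    by_cases hq : Q ≤ Z
    · refine ⟨Z, hZQ, fun a ha b hb => hZc a ha b (hZQ hb), ?_⟩
      exact lt_of_lt_of_le (by norm_num) (h16.trans (card_le_of_le hq))
    obtain ⟨q, hqQ, hqZ⟩ := SetLike.not_le_iff_exists.1 hq
    refine ⟨Z ⊔ zpowers q, sup_le hZQ (zpowers_le.2 hqQ), sup_comm_commute
      (fun a ha b hb => hZc a ha b (hZQ hb)) (zpowers_commute q)
      (fun a ha b hb => hZc a ha b (zpowers_le.2 hqQ hb)), ?_⟩
    have h4 : 4 ∣ Nat.card Z := by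
      refine four_dvd S.hyp (hQ3.anti hZQ) hZI ?_
      obtain ⟨k, hk⟩ := IsPGroup.iff_card.1 (hQp.to_le hZQ)
      rw [hk] at hZ1 ⊢
      exact dvd_pow_self 2 fun e => by simp [e] at hZ1
    refine lt_of_le_of_lt (Nat.le_of_dvd Nat.card_pos h4) (lt_of_le_of_ne
      (card_le_of_le le_sup_left) fun e => ?_)
    exact hqZ (Subgroup.eq_of_le_of_card_ge le_sup_left e.ge ▸ mem_sup_right (mem_zpowers q))
  have hmax : JA (Q ⊔ zpowers t) = JA Q := by
    refine JA_eq_of_max le_sup_left fun A hA hAc hAm => ?_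
    by_contra hAQ
    obtain ⟨s, hsA, hsQ⟩ := SetLike.not_le_iff_exists.1 hAQ
    have hts : t * s ∈ Q := (hmem s (hA hsA)).resolve_left hsQ
    set B := A ⊓ Q with hB
    have hAB : Nat.card A ≤ 2 * Nat.card B := by
      classical
      let f : A → Bool × B := fun a => if ha : (a : G) ∈ Q then (false, ⟨a, a.2, ha⟩)
        else (true, ⟨s * a, A.mul_mem hsA a.2, by
          have h1 := (hmem a (hA a.2)).resolve_left ha
          have h2 := ((mem_set_normalizer_iff.1 htQ) _).1 hts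
          have h3 := Q.mul_mem h2 h1
          rwa [show t * (t * s) * t⁻¹ * (t * (a : G)) = (t * t) * s * (t⁻¹ * t) * a by group,
            S.inverts.sq, inv_mul_cancel, one_mul, mul_one] at h3⟩)
      have hf : Function.Injective f := by
        intro a b hab
        simp only [f] at hab
        split_ifs at hab with ha hb hb
        · exact Subtype.ext (congrArg (fun p : Bool × B => (p.2 : G)) hab)
        · simp at hab
        · simp at hab
        · exact Subtype.ext (mul_left_cancel (congrArg (fun p : Bool × B => (p.2 : G)) hab))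
      simpa [Nat.card_prod] using Nat.card_le_card_of_injective f hf
    have hd : B ⊓ cj x B = ⊥ := by
      rw [eq_bot_iff]
      rintro b ⟨hb, hb'⟩
      rw [mem_bot]
      have hc1 : Commute b s := hAc b hb.1 s hsA
      have hc2 : Commute b (x * s * x⁻¹) := by
        have := (hAc _ (mem_cj.1 hb').1 s hsA).map (MulAut.conj x).toMonoidHom
        simpa [mul_assoc] using this
      have hy := hc1.mul_right hc2
      set q := t * s with hq
      have hq' : x * q * x⁻¹ ∈ Q := hQI q hts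
      have hu : t * (x * q * x⁻¹) * t⁻¹ * (x * q * x⁻¹) ∈ Q :=
        Q.mul_mem (((mem_set_normalizer_iff.1 htQ) _).1 hq') hq'
      have hs : s = t * q := by rw [hq, ← mul_assoc, S.inverts.sq, one_mul]
      have hxt : x⁻¹ * t = t * x := by
        rw [← S.inverts.conj]; group
      have hyv : s * (x * s * x⁻¹) = x * (t * (x * q * x⁻¹) * t⁻¹ * (x * q * x⁻¹)) := by
        have ht' : t⁻¹ = x⁻¹ * t⁻¹ * x⁻¹ := by
          rw [show x⁻¹ * t⁻¹ * x⁻¹ = (x * t * x)⁻¹ by group]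
          congr 1
          rw [mul_assoc, ← hxt, mul_inv_cancel_left]
        have ht2 : t * q * (x * (t * q) * x⁻¹) = t * q * x * t * q * x⁻¹ := by group
        rw [hs, ht2, S.inverts.inv_eq]
        rw [show x * (t * (x * q * x⁻¹) * t * (x * q * x⁻¹)) =
          (x * t * x) * q * (x⁻¹ * t * x) * q * x⁻¹ by group]
        rw [show x * t * x = t by rw [mul_assoc, ← hxt, mul_inv_cancel_left], hxt,
          show t * x * x = t * x⁻¹ by rw [mul_assoc, S.hyp.mul_self],
          show t * x⁻¹ = x * t by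
            have := S.inverts.conj_inv
            exact (mul_inv_eq_iff_eq_mul.1 this)]
        group
      obtain ⟨r, hr, hrx⟩ := exists_conj_eq S.hyp hQ3 hQI hu
      rw [hyv, ← hrx] at hy
      have h1 : Commute (r⁻¹ * b * r) x := by
        have := hy.map (MulAut.conj r⁻¹).toMonoidHom
        simpa [mul_assoc] using this
      have h2 := fixed_eq_one S.hyp hQ3 (Q.mul_mem (Q.mul_mem (Q.inv_mem hr) hb.2) hr) h1
      rw [show b = r * (r⁻¹ * b * r) * r⁻¹ by group, h2]; group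
    obtain ⟨W, hBW, hWQ, hWI, hWc⟩ := exists_abelian_inv S.hyp hQ3 hQI (A := B) inf_le_right
      fun a ha b hb => hAc a ha.1 b hb.1
    have hBW' : cj x B ≤ W := by
      rintro - ⟨b, hb, rfl⟩
      exact hWI b (hBW hb)
    have h3 := Nat.le_of_dvd Nat.card_pos (card_mul_card_dvd hBW hBW'
      (fun a ha b hb => hWc a (hBW ha) b (hBW' hb)) hd)
    rw [card_cj] at h3
    have h4 := hAm W (hWQ.trans le_sup_left) hWc
    have h5 := hAm B₀ (hB₀.trans le_sup_left) hB₀c
    nlinarith [Nat.card_pos (α := B)]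
  have hJ : JA Q ≠ ⊥ := fun e => by
    obtain ⟨A, hA⟩ := exists_JA_max Q
    have := hA.2.2 B₀ hB₀ hB₀c
    have h1 : A ≤ JA Q := le_sSup hA
    rw [e, le_bot_iff] at h1
    rw [h1, card_bot] at this
    omega
  have hN : normalizer (JA Q : Set G) ≤ normalizer (M : Set G) := by
    have hMn : normalizer (M : Set G) ≤ normalizer (JA Q : Set G) :=
      (normalizer_le_pc 2 M).trans (normalizer_le_JA Q)
    exact (hM.charSub S hJ ((JA_le Q).trans (pc_le 2 M)) (le_normalizer.trans hMn)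
      (hMn (hM.x_mem S))).resolve_right fun h => h.2 ⟨hMn ht, ht⟩
  refine ⟨hmax, hN, ?_⟩
  have := hM.isNilpotent S
  set m := (Nat.card M).factorization 2 with hm
  have hTc' : Nat.card (Q ⊔ zpowers t : Subgroup G) = 2 ^ (m + 1) := by
    rw [hTc, pc_data.2, pow_succ, mul_comm]
  rw [hTc']
  congr 1
  have hd : 2 ^ (m + 1) ∣ Nat.card G := hTc' ▸ card_subgroup_dvd_card _
  refine le_antisymm ((Nat.prime_two.pow_dvd_iff_le_factorization Nat.card_pos.ne').1 hd) ?_
  by_contra! hlt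
  refine S.sylow_card hTc' (fun h1 => ?_) ((Nat.prime_two.pow_dvd_iff_le_factorization Nat.card_pos.ne').2 hlt)
  have h3 := h1.trans ((card_dvd_of_le ((normalizer_le_JA _).trans (hmax ▸ hN))).trans
    (hM.card_normalizer_dvd S))
  rw [show 6 * Nat.card M = 2 * (3 * Nat.card M) by ring, pow_succ', mul_dvd_mul_iff_left (by norm_num : (2 : ℕ) ≠ 0)] at h3
  exact Nat.pow_succ_factorization_not_dvd Nat.card_pos.ne' Nat.prime_two
    ((Nat.Coprime.pow_left _ (show (2 : ℕ).Coprime 3 by norm_num)).dvd_of_dvd_mul_left h3)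

end Cfsg.Lib.SelfCentThree
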